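/-
Generation by fixed points for coprime abelian operator groups, in the language of a homomorphism
`act : A →* MulAut G` (helper83).

Main results (namespace `Cfsg.Agent.CoprimeNilClass`): `fixSub`, `le_of_fixed_cyclic`, `le_of_fixed_noncyclic`.
-/
import Cfsg.Agent.Lib.FPF.Basic
import Cfsg.Agent.Lib.Coprime.Generation

set_option autoImplicit false
set_option linter.style.haveILetI false

namespace Cfsg.Agent.CoprimeNilClass

open Cfsg.Agent.FPF (Inv fixBy)

variable {A G : Type*} [Group A] [Group G] (act : A →* MulAut G)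

/-- The fixed points of a subgroup of the operator group. -/
def fixSub (B : Subgroup A) : Subgroup G := ⨅ b : B, fixBy act (b : A)

theorem mem_fixSub {B : Subgroup A} {x : G} : x ∈ fixSub act B ↔ ∀ b ∈ B, act b x = x := by
  simp [fixSub, Subgroup.mem_iInf, FPF.mem_fixBy]

theorem fixSub_le {B : Subgroup A} {b : A} (hb : b ∈ B) : fixSub act B ≤ fixBy act b :=
  fun _ hx => (mem_fixSub act).mp hx b hb

theorem fixSub_inv (hAc : ∀ a b : A, a * b = b * a) (B : Subgroup A) : Inv act (fixSub act B) :=
  fun a x hx => (mem_fixSub act).mpr fun b hb =>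
    FPF.inv_fixBy act hAc b a x ((mem_fixSub act).mp hx b hb)

variable [Finite A] [Finite G]

/-- An invariant subgroup is generated by the fixed points of the subgroups with cyclic quotient. -/
theorem le_of_fixed_cyclic (hAc : ∀ a b : A, a * b = b * a) (hcop : (Nat.card A).Coprime (Nat.card G))
    {K : Subgroup G} (hK : Inv act K) {W : Subgroup G}
    (hW : ∀ (B : Subgroup A) (g : A), B ⊔ Subgroup.zpowers g = ⊤ → K ⊓ fixSub act B ≤ W) : K ≤ W := by
  let X := G ⋊[act] A
  haveI : Finite X := Finite.of_equiv _ SemidirectProduct.equivProd.symm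
  set A' := (SemidirectProduct.inr : A →* X).range
  haveI : IsMulCommutative A' :=
    ⟨⟨by
      rintro ⟨_, a, rfl⟩ ⟨_, b, rfl⟩
      refine Subtype.ext ?_
      show (SemidirectProduct.inr a : X) * SemidirectProduct.inr b = SemidirectProduct.inr b * SemidirectProduct.inr a
      rw [← map_mul, ← map_mul, hAc]⟩⟩
  have hconj : ∀ (a : A) (x : G), (SemidirectProduct.inr a : X) * SemidirectProduct.inl x *
      (SemidirectProduct.inr a)⁻¹ = SemidirectProduct.inl (act a x) := fun a x => by
    rw [← map_inv]; exact (SemidirectProduct.inl_aut (φ := act) a x).symm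
  have hn : A' ≤ Subgroup.normalizer (K.map (SemidirectProduct.inl : G →* X) : Set X) := by
    rintro _ ⟨a, rfl⟩
    refine Coprime.mem_normalizer_of_forall ?_
    rintro _ ⟨x, hx, rfl⟩
    rw [hconj]
    exact ⟨_, hK a x hx, rfl⟩
  have hcop' : (Nat.card A').Coprime (Nat.card (K.map (SemidirectProduct.inl : G →* X))) := by
    rw [Subgroup.card_map_of_injective SemidirectProduct.inl_injective]
    refine (hcop.coprime_dvd_left ?_).coprime_dvd_right (Subgroup.card_subgroup_dvd_card K)
    exact dvd_of_eq (Nat.card_congr (MonoidHom.ofInjective (f := (SemidirectProduct.inr : A →* X))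
      SemidirectProduct.inr_injective).toEquiv).symm
  have h : K.map (SemidirectProduct.inl : G →* X) ≤ W.map SemidirectProduct.inl := by
    refine Coprime.le_of_cyclic_quotient hn hcop' fun B' hB' ⟨g', hg', hle⟩ => ?_
    obtain ⟨g, rfl⟩ := hg'
    set B := B'.comap (SemidirectProduct.inr : A →* X)
    have hB : B.map (SemidirectProduct.inr : A →* X) = B' := Subgroup.map_comap_eq_self hB'
    have htop : B ⊔ Subgroup.zpowers g = ⊤ := by
      refine eq_top_iff.mpr fun a _ => ?_
      have h1 : (SemidirectProduct.inr a : X) ∈ (B ⊔ Subgroup.zpowers g).map SemidirectProduct.inr := by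
        rw [Subgroup.map_sup, hB, MonoidHom.map_zpowers]
        exact hle ⟨a, rfl⟩
      obtain ⟨b, hb, he⟩ := h1
      exact SemidirectProduct.inr_injective he ▸ hb
    rintro _ ⟨⟨x, hx, rfl⟩, hxB⟩
    refine ⟨x, hW B g htop ⟨hx, (mem_fixSub act).mpr fun b hb => ?_⟩, rfl⟩
    refine SemidirectProduct.inl_injective (φ := act) ?_
    rw [← hconj, mul_inv_eq_iff_eq_mul]
    exact Subgroup.mem_centralizer_iff.mp hxB _ hb
  intro x hx
  obtain ⟨y, hy, he⟩ := h ⟨x, hx, rfl⟩
  exact SemidirectProduct.inl_injective he ▸ hy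

/-- An invariant subgroup is generated by the fixed points of the nonidentity elements of a noncyclic
subgroup of the operators. -/
theorem le_of_fixed_noncyclic (hAc : ∀ a b : A, a * b = b * a) (hcop : (Nat.card A).Coprime (Nat.card G))
    {B : Subgroup A} (hB : ¬ IsCyclic B) {K : Subgroup G} (hK : Inv act K) {W : Subgroup G}
    (hW : ∀ b ∈ B, b ≠ 1 → K ⊓ fixBy act b ≤ W) : K ≤ W := by
  refine le_of_fixed_cyclic (act.comp B.subtype) (fun a b => Subtype.ext (hAc a b))
    (hcop.coprime_dvd_left (Subgroup.card_subgroup_dvd_card B)) (fun b x hx => hK b x hx) fun C g hCg => ?_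
  obtain ⟨b, hb, hb1⟩ : ∃ b ∈ C, b ≠ 1 := by
    by_contra hcon
    push Not at hcon
    rw [(Subgroup.eq_bot_iff_forall C).mpr hcon, bot_sup_eq] at hCg
    exact hB ⟨g, fun x => Subgroup.mem_zpowers_iff.mp (hCg ▸ Subgroup.mem_top x)⟩
  intro x hx
  exact hW b b.2 (fun h => hb1 (Subtype.ext h)) ⟨hx.1, (mem_fixSub _).mp hx.2 b hb⟩

end Cfsg.Agent.CoprimeNilClass
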