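/-
Kreknin's theorem for gradings whose zero component acts nilpotently, and its consequence for Lie rings
with an automorphism of prime order (helper83).

Main results (namespace `Cfsg.Agent.CoprimeNilClass`): `stepIt`, `solvBound`, `kreknin_ad`,
`lieDer_eq_bot_of_ad`.
-/
import Cfsg.Agent.Lib.AlperinFix.Lie

set_option autoImplicit false
set_option linter.style.haveILetI false

namespace Cfsg.Agent.CoprimeNilClass

open FPFLie (Conv IsGr der eig proj emb coef Gen)
open AlperinFix (lieDer lie_mem_lieDer)

variable {L : Type*} [LieRing L]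

/-- The additive span of the brackets `⁅s, c⁆`. -/
def brSpan (S C : AddSubgroup L) : AddSubgroup L :=
  AddSubgroup.closure {z | ∃ s ∈ S, ∃ c ∈ C, ⁅s, c⁆ = z}

/-- Iterated `brSpan`. -/
def stepIt (S C : AddSubgroup L) : ℕ → AddSubgroup L
  | 0 => S
  | j + 1 => brSpan (stepIt S C j) C

theorem lie_mem_brSpan {S C : AddSubgroup L} {s c : L} (hs : s ∈ S) (hc : c ∈ C) : ⁅s, c⁆ ∈ brSpan S C :=
  AddSubgroup.subset_closure ⟨s, hs, c, hc, rfl⟩

theorem brSpan_mono {S S' C C' : AddSubgroup L} (hS : S ≤ S') (hC : C ≤ C') : brSpan S C ≤ brSpan S' C' :=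
  AddSubgroup.closure_mono fun _ ⟨s, hs, c, hc, he⟩ => ⟨s, hS hs, c, hC hc, he⟩

theorem brSpan_le {S C K : AddSubgroup L} (h : ∀ s ∈ S, ∀ c ∈ C, ⁅s, c⁆ ∈ K) : brSpan S C ≤ K :=
  (AddSubgroup.closure_le K).mpr fun _ ⟨s, hs, c, hc, he⟩ => he ▸ h s hs c hc

theorem brSpan_bot (C : AddSubgroup L) : brSpan ⊥ C = ⊥ :=
  le_bot_iff.mp (brSpan_le fun s hs c _ => by
    rw [AddSubgroup.mem_bot.mp hs, zero_lie]; exact zero_mem _)

theorem stepIt_mono {S S' C C' : AddSubgroup L} (hS : S ≤ S') (hC : C ≤ C') :
    ∀ j, stepIt S C j ≤ stepIt S' C' j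
  | 0 => hS
  | j + 1 => brSpan_mono (stepIt_mono hS hC j) hC

theorem stepIt_add (S C : AddSubgroup L) (a : ℕ) : ∀ b, stepIt S C (a + b) = stepIt (stepIt S C a) C b
  | 0 => rfl
  | b + 1 => by
    show brSpan (stepIt S C (a + b)) C = brSpan (stepIt (stepIt S C a) C b) C
    rw [stepIt_add S C a b]

variable {n : ℕ}

theorem gen_mono {E F : ZMod n → AddSubgroup L} (h : ∀ i, F i ≤ E i) {k : ℕ} {j : ZMod n} {x : L}
    (hx : Gen F k j x) : Gen E k j x :=
  FPFLie.gen_trans (fun _ hj _ hy => Gen.base hj (h _ hy)) hx

/-- The component `E 0` normalises the subring generated by the higher components. -/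
theorem gen_lie_zero {E : ZMod n → AddSubgroup L} (hE : IsGr E) {k : ℕ} {j : ZMod n} {x : L}
    (hx : Gen E k j x) {m : L} (hm : m ∈ E 0) : Gen E k j ⁅x, m⁆ := by
  induction hx with
  | @base j x hj hx => exact Gen.base hj (by have := hE j 0 x hx m hm; rwa [add_zero] at this)
  | zero j => rw [zero_lie]; exact Gen.zero j
  | add _ _ h1 h2 => rw [add_lie]; exact h1.add h2
  | neg _ h1 => rw [neg_lie]; exact h1.neg
  | @brk a b u v hu hv h1 h2 =>
    rw [lie_lie, sub_eq_add_neg, lie_skew]
    exact (hu.brk h2).add (h1.brk hv)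

/-- The subring generated by the higher components in one degree, as an additive subgroup. -/
def genSub (E : ZMod n → AddSubgroup L) (k : ℕ) (j : ZMod n) : AddSubgroup L where
  carrier := {x | Gen E k j x}
  zero_mem' := Gen.zero j
  add_mem' := Gen.add
  neg_mem' := Gen.neg

theorem brSpan_genSub_le {E : ZMod n → AddSubgroup L} (hE : IsGr E) (k : ℕ) (j : ZMod n) :
    brSpan (genSub E k j) (E 0) ≤ genSub E k j :=
  brSpan_le fun _ hs _ hc => gen_lie_zero hE hs hc

theorem gen_bracket_ad [NeZero n] {E : ZMod n → AddSubgroup L} (hE : IsGr E) {k : ℕ}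
    (hk : k + 1 < n) {a : ZMod n} {h : L} (hh : Gen E k a h) :
    ∀ b, ∀ m ∈ E b, a + b = ((k + 1 : ℕ) : ZMod n) →
      ⁅h, m⁆ ∈ genSub E (k + 1) ((k + 1 : ℕ) : ZMod n) ⊔ brSpan (E ((k + 1 : ℕ) : ZMod n)) (E 0) := by
  induction hh with
  | @base j x hj hx =>
    intro b m hm hab
    have hv : ((k + 1 : ℕ) : ZMod n).val = k + 1 := ZMod.val_cast_of_lt hk
    rcases Nat.lt_or_ge (k + 1) j.val with hlt | hge
    · have hb : k + 1 < b.val := by
        have h1 := congrArg ZMod.val hab
        rw [ZMod.val_add, hv] at h1
        have hja := j.val_lt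
        have hba := b.val_lt
        rcases Nat.lt_or_ge (j.val + b.val) n with h2 | h2
        · rw [Nat.mod_eq_of_lt h2] at h1; omega
        · rw [Nat.mod_eq_sub_mod h2, Nat.mod_eq_of_lt (by omega)] at h1; omega
      refine AddSubgroup.mem_sup_left ?_
      have := Gen.brk (Gen.base hlt hx) (Gen.base (E := E) hb hm)
      rwa [hab] at this
    · have hj' : j = ((k + 1 : ℕ) : ZMod n) := ZMod.val_injective n (by rw [hv]; omega)
      have hb : b = 0 := by
        rw [hj'] at hab
        exact add_eq_left.mp hab
      subst hb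
      subst hj'
      exact AddSubgroup.mem_sup_right (lie_mem_brSpan hx hm)
  | zero j => intro b m _ _; rw [zero_lie]; exact zero_mem _
  | add _ _ ih1 ih2 =>
    intro b m hm hab
    rw [add_lie]; exact add_mem (ih1 b m hm hab) (ih2 b m hm hab)
  | neg _ ih => intro b m hm hab; rw [neg_lie]; exact neg_mem (ih b m hm hab)
  | @brk a₁ a₂ u v hu hv ihu ihv =>
    intro b m hm hab
    rw [lie_lie]
    exact sub_mem (ihu (a₂ + b) _ (hE _ _ _ (hv.mem hE) _ hm) (by rw [← hab, add_assoc]))
      (ihv (a₁ + b) _ (hE _ _ _ (hu.mem hE) _ hm) (by rw [← hab]; abel))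

/-- The bound in the generalised theorem. -/
def solvBound (M : ℕ) : ℕ → ℕ
  | 0 => M
  | k + 1 => solvBound M k + M * (solvBound M k + 1)

theorem kreknin_ad_aux [NeZero n] (M : ℕ) : ∀ k, k < n → ∀ (E : ZMod n → AddSubgroup L), IsGr E →
    (∀ i, stepIt (E i) (E 0) M = ⊥) → ∀ i, ∀ x ∈ der^[solvBound M k] E i, Gen E k i x := by
  intro k
  induction k with
  | zero =>
    intro _ E hE hM i x hx
    rcases Nat.eq_zero_or_pos i.val with hi | hi
    swap
    · exact Gen.base hi ((FPFLie.iterate_der E hE _).2 i hx)
    rw [ZMod.val_eq_zero] at hi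
    subst hi
    have key : ∀ t, der^[t] E 0 ≤ genSub E 0 0 ⊔ stepIt (E 0) (E 0) t := by
      intro t
      induction t with
      | zero => exact le_sup_right
      | succ t ih =>
        rw [Function.iterate_succ_apply']
        set D := der^[t] E
        obtain ⟨-, hDE⟩ := FPFLie.iterate_der E hE t
        intro z hz
        induction hz using AddSubgroup.closure_induction with
        | mem z hz =>
          obtain ⟨a, b, hab, u, hu, v, hv, rfl⟩ := hz
          rcases Nat.eq_zero_or_pos a.val with ha | ha
          · rw [ZMod.val_eq_zero] at ha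
            subst ha
            rw [zero_add] at hab
            subst hab
            have h1 := lie_mem_brSpan (ih hu) (hDE 0 hv)
            refine brSpan_le ?_ h1
            intro s hs c hc
            obtain ⟨g, hg, w, hw, rfl⟩ := AddSubgroup.mem_sup.mp hs
            rw [add_lie]
            exact add_mem (AddSubgroup.mem_sup_left (gen_lie_zero hE hg hc))
              (AddSubgroup.mem_sup_right (lie_mem_brSpan hw hc))
          · have hb : 0 < b.val := by
              refine Nat.pos_of_ne_zero fun hb => ?_
              rw [ZMod.val_eq_zero] at hb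
              rw [hb, add_zero] at hab
              rw [hab, ZMod.val_zero] at ha
              exact lt_irrefl 0 ha
            refine AddSubgroup.mem_sup_left ?_
            have := Gen.brk (Gen.base ha (hDE a hu)) (Gen.base (E := E) hb (hDE b hv))
            rwa [hab] at this
        | zero => exact zero_mem _
        | add _ _ _ _ h1 h2 => exact add_mem h1 h2
        | neg _ _ h1 => exact neg_mem h1
    have h := key M hx
    rw [hM, sup_bot_eq] at h
    exact h
  | succ k ih =>
    intro hk E hE hM i x hx
    set f := solvBound M k with hf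
    have hMsub : ∀ (F : ZMod n → AddSubgroup L), (∀ j, F j ≤ E j) → ∀ j, stepIt (F j) (F 0) M = ⊥ :=
      fun F hF j => le_bot_iff.mp ((stepIt_mono (hF j) (hF 0) M).trans (hM j).le)
    have key : ∀ t, der^[t * (f + 1)] E ((k + 1 : ℕ) : ZMod n) ≤
        genSub E (k + 1) ((k + 1 : ℕ) : ZMod n) ⊔ stepIt (E ((k + 1 : ℕ) : ZMod n)) (E 0) t := by
      intro t
      induction t with
      | zero => rw [Nat.zero_mul]; exact le_sup_right
      | succ t iht =>
        rw [Nat.succ_mul, add_comm, Function.iterate_add_apply, Function.iterate_succ_apply']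
        set D := der^[t * (f + 1)] E
        obtain ⟨hD, hDE⟩ := FPFLie.iterate_der E hE (t * (f + 1))
        intro z hz
        induction hz using AddSubgroup.closure_induction with
        | mem z hz =>
          obtain ⟨a, b, hab, u, hu, v, hv, rfl⟩ := hz
          have h1 := gen_bracket_ad hD hk (ih (by omega) D hD (hMsub D hDE) a u hu) b v
            ((FPFLie.iterate_der D hD f).2 b hv) hab
          refine (sup_le ?_ ?_ : _ ≤ genSub E (k + 1) _ ⊔ stepIt (E _) (E 0) (t + 1)) h1
          · exact le_sup_of_le_left fun w hw => gen_mono hDE hw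
          · refine brSpan_le fun s hs c hc => ?_
            obtain ⟨g, hg, w, hw, rfl⟩ := AddSubgroup.mem_sup.mp (iht hs)
            rw [add_lie]
            exact add_mem (AddSubgroup.mem_sup_left (gen_lie_zero hE hg (hDE 0 hc)))
              (AddSubgroup.mem_sup_right (lie_mem_brSpan hw (hDE 0 hc)))
        | zero => exact zero_mem _
        | add _ _ _ _ h1 h2 => exact add_mem h1 h2
        | neg _ _ h1 => exact neg_mem h1
    rw [solvBound, Function.iterate_add_apply] at hx
    set D := der^[M * (f + 1)] E
    obtain ⟨hD, hDE⟩ := FPFLie.iterate_der E hE (M * (f + 1))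
    refine FPFLie.gen_trans ?_ (ih (by omega) D hD (hMsub D hDE) i x hx)
    intro j hj y hy
    rcases Nat.lt_or_ge (k + 1) j.val with hlt | hge
    · exact Gen.base hlt (hDE j hy)
    have hj' : j = ((k + 1 : ℕ) : ZMod n) :=
      ZMod.val_injective n (by rw [ZMod.val_cast_of_lt hk]; omega)
    subst hj'
    have h := key M hy
    rw [hM, sup_bot_eq] at h
    exact h

/-- A graded Lie ring whose zero component acts nilpotently on each component is soluble. -/
theorem kreknin_ad [NeZero n] {E : ZMod n → AddSubgroup L} (hE : IsGr E) {M : ℕ}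
    (hM : ∀ i, stepIt (E i) (E 0) M = ⊥) (i : ZMod n) : der^[solvBound M (n - 1)] E i = ⊥ := by
  rw [eq_bot_iff]
  intro x hx
  rw [AddSubgroup.mem_bot]
  have h := kreknin_ad_aux M (n - 1) (Nat.sub_lt (NeZero.pos n) one_pos) E hE hM i x hx
  clear hx
  induction h with
  | @base j x hj hx => have := j.val_lt; omega
  | zero j => rfl
  | add _ _ h1 h2 => rw [h1, h2, add_zero]
  | neg _ h1 => rw [h1, neg_zero]
  | brk _ _ h1 _ => rw [h1, zero_lie]

/-- A Lie ring with invertible `p` and an automorphism of period `p` whose fixed points act nilpotently is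
soluble. -/
theorem lieDer_eq_bot_of_ad {p : ℕ} [Fact p.Prime] (htor : ∀ x : L, p • x = 0 → x = 0) (T : L →+ L)
    (hT : ∀ x y, T ⁅x, y⁆ = ⁅T x, T y⁆) (hTp : ∀ x, T^[p] x = x) (C : AddSubgroup L)
    (hC : ∀ x, T x = x → x ∈ C) {M : ℕ} (hM : stepIt ⊤ C M = ⊥) :
    lieDer L (solvBound M (p - 1)) = ⊥ := by
  have hval : ∀ (S : AddSubgroup (Conv p L)) t, ∀ f ∈ stepIt S (eig (p := p) T 0) t, ∀ k : ZMod p,
      f k ∈ stepIt ⊤ C t := by
    intro S t
    induction t with
    | zero => intro f _ k; exact AddSubgroup.mem_top _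
    | succ t ih =>
      intro f hf
      induction hf using AddSubgroup.closure_induction with
      | mem z hz =>
        obtain ⟨s, hs, c, hc, rfl⟩ := hz
        intro k
        rw [FPFLie.conv_apply]
        exact sum_mem fun i _ => lie_mem_brSpan (ih s hs i) (hC _ ((hc (k - i)).trans (by rw [sub_zero])))
      | zero => intro k; exact zero_mem _
      | add _ _ _ _ h1 h2 => intro k; exact add_mem (h1 k) (h2 k)
      | neg _ _ h1 => intro k; exact neg_mem (h1 k)
  have hder : ∀ i, der^[solvBound M (p - 1)] (eig (p := p) T) i = ⊥ := by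
    refine kreknin_ad (FPFLie.isGr_eig T hT) fun i => le_bot_iff.mp fun f hf => ?_
    refine AddSubgroup.mem_bot.mpr (funext fun k => ?_)
    have h := hval _ M f hf k
    rw [hM] at h
    exact h
  have main : ∀ s, ∀ x ∈ lieDer L s,
      ((p : ℤ) ^ (2 ^ s - 1)) • emb (p := p) x ∈ ⨆ i, der^[s] (eig (p := p) T) i := by
    intro s
    induction s with
    | zero =>
      intro x _
      classical
      rw [pow_zero, Nat.sub_self, pow_zero, one_smul]
      set S := ∑ i : ZMod p, T^[i.val] x with hS
      have hST : T S = S := AlperinFix.map_trace T hTp x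
      let g : Conv p L := fun k => if k = 0 then 0 else -S
      have hg : g ∈ eig (p := p) T 0 := by
        intro k
        show T (if k = 0 then 0 else -S) = if k - 0 = 0 then 0 else -S
        rw [sub_zero]
        split_ifs
        · exact map_zero T
        · rw [map_neg, hST]
      have he : emb (p := p) x = (∑ j ∈ Finset.univ.erase (0 : ZMod p), proj T j x) + g := by
        ext k
        show coef k • x = ((∑ j ∈ Finset.univ.erase (0 : ZMod p), proj T j x : ZMod p → L) k) +
          (if k = 0 then 0 else -S)
        erw [Finset.sum_apply]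
        show coef k • x = (∑ j ∈ Finset.univ.erase (0 : ZMod p), T^[(-k * j⁻¹).val] x) + _
        by_cases hk : k = 0
        · subst hk
          simp only [coef, if_true, neg_zero, zero_mul, ZMod.val_zero, Function.iterate_zero_apply,
            Finset.sum_const, Finset.card_erase_of_mem (Finset.mem_univ _), Finset.card_univ, ZMod.card,
            add_zero]
          rw [← natCast_zsmul, Nat.cast_sub (Fact.out : p.Prime).one_le, Nat.cast_one]
        · rw [Finset.sum_nbij' (fun j => -k * j⁻¹) (fun i => -k * i⁻¹) (t := Finset.univ.erase (0 : ZMod p))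
            (g := fun i => T^[i.val] x), Finset.sum_erase_eq_sub (Finset.mem_univ _), ← hS, ZMod.val_zero,
            Function.iterate_zero_apply, coef, if_neg hk, if_neg hk, zero_sub, neg_smul, one_smul]
          · abel
          · intro j hj
            simpa [hk] using hj
          · intro j hj
            simpa [hk] using hj
          · intro j hj
            simp [mul_inv_rev, mul_comm, hk]
          · intro j hj
            simp [mul_inv_rev, mul_comm, hk]
          · intros; rfl
      rw [he]
      exact add_mem (sum_mem fun j hj => AddSubgroup.mem_iSup_of_mem j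
          (FPFLie.proj_mem T hTp (Finset.ne_of_mem_erase hj) x))
        (AddSubgroup.mem_iSup_of_mem 0 hg)
    | succ s ih =>
      intro z hz
      induction hz using AddSubgroup.closure_induction with
      | mem z hz =>
        obtain ⟨x, hx, y, hy, rfl⟩ := hz
        have e : ((p : ℤ) ^ (2 ^ (s + 1) - 1)) • emb (p := p) ⁅x, y⁆ =
            ⁅((p : ℤ) ^ (2 ^ s - 1)) • emb (p := p) x, ((p : ℤ) ^ (2 ^ s - 1)) • emb (p := p) y⁆ := by
          rw [lie_zsmul, FPFLie.lie_emb, smul_smul]
          congr 1
          have h1 : 1 ≤ 2 ^ s := Nat.one_le_two_pow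
          rw [show 2 ^ (s + 1) - 1 = (2 ^ s - 1) + ((2 ^ s - 1) + 1) by rw [pow_succ]; omega, pow_add,
            pow_succ]
        rw [e]
        have hu := ih x hx
        have hv := ih y hy
        generalize ((p : ℤ) ^ (2 ^ s - 1)) • emb (p := p) x = u at hu ⊢
        generalize ((p : ℤ) ^ (2 ^ s - 1)) • emb (p := p) y = v at hv ⊢
        rw [Function.iterate_succ_apply']
        induction hu using AddSubgroup.iSup_induction' with
        | hp a u hu =>
          induction hv using AddSubgroup.iSup_induction' with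
          | hp b v hv => exact AddSubgroup.mem_iSup_of_mem (a + b) (FPFLie.mem_brkFam hu hv)
          | h1 => rw [lie_zero]; exact zero_mem _
          | hadd _ _ _ _ h3 h4 => rw [lie_add]; exact add_mem h3 h4
        | h1 => rw [zero_lie]; exact zero_mem _
        | hadd _ _ _ _ h3 h4 => rw [add_lie]; exact add_mem h3 h4
      | zero =>
        have : emb (p := p) (0 : L) = 0 := funext fun k => smul_zero _
        rw [this, smul_zero]
        exact zero_mem _
      | add a b _ _ h1 h2 =>
        have : emb (p := p) (a + b) = emb a + emb b := funext fun k => smul_add _ _ _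
        rw [this, smul_add]
        exact add_mem h1 h2
      | neg a _ h1 =>
        have : emb (p := p) (-a) = -emb a := funext fun k => smul_neg _ _
        rw [this, smul_neg]
        exact neg_mem h1
  rw [eq_bot_iff]
  intro x hx
  have h := main _ x hx
  rw [iSup_congr hder, iSup_bot, AddSubgroup.mem_bot] at h
  have h1 : ((p : ℤ) ^ (2 ^ solvBound M (p - 1) - 1)) • (coef (1 : ZMod p) • x) = 0 := congrFun h 1
  rw [coef, if_neg one_ne_zero, zero_sub, neg_smul, one_smul, smul_neg, neg_eq_zero, ← Nat.cast_pow,
    natCast_zsmul] at h1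
  have hpow : ∀ (j : ℕ) (y : L), p ^ j • y = 0 → y = 0 := by
    intro j
    induction j with
    | zero => intro y hy; rwa [pow_zero, one_nsmul] at hy
    | succ j ih =>
      intro y hy
      rw [pow_succ, mul_nsmul'] at hy
      exact htor y (ih _ hy)
  exact AddSubgroup.mem_bot.mpr (hpow _ x h1)

end Cfsg.Agent.CoprimeNilClass
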