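/-
A soluble Lie ring of operators spanned by boundedly many nilpotent pieces acts nilpotently (helper83).

Main results (namespace `Cfsg.Agent.CoprimeNilClass`): `foldBr`, `stepIt_eq_bot_of_pieces`.
-/
import Cfsg.Agent.Lib.CoprimeNilClass.Kreknin

set_option autoImplicit false
set_option linter.style.haveILetI false

namespace Cfsg.Agent.CoprimeNilClass

variable {L : Type*} [LieRing L]

/-- Iterated right bracketing. -/
def foldBr (f : L) (l : List L) : L := l.foldl (fun z y => ⁅z, y⁆) f

theorem foldBr_append (f : L) (l l' : List L) : foldBr f (l ++ l') = foldBr (foldBr f l) l' :=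
  List.foldl_append ..

theorem foldBr_zero : ∀ l : List L, foldBr (0 : L) l = 0
  | [] => rfl
  | e :: l => by
    show foldBr ⁅(0 : L), e⁆ l = 0
    rw [zero_lie]; exact foldBr_zero l

theorem foldBr_sub : ∀ (l : List L) (a b : L), foldBr (a - b) l = foldBr a l - foldBr b l
  | [], _, _ => rfl
  | e :: l, a, b => by
    show foldBr ⁅a - b, e⁆ l = foldBr ⁅a, e⁆ l - foldBr ⁅b, e⁆ l
    rw [sub_lie]; exact foldBr_sub l _ _

theorem foldBr_mem {F C : AddSubgroup L} (h : brSpan F C ≤ F) :
    ∀ (l : List L) {f : L}, f ∈ F → (∀ y ∈ l, y ∈ C) → foldBr f l ∈ F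
  | [], _, hf, _ => hf
  | _ :: l, _, hf, hl => foldBr_mem h l (h (lie_mem_brSpan hf (hl _ List.mem_cons_self)))
      fun y hy => hl y (List.mem_cons_of_mem _ hy)

theorem foldBr_perm {F F' C : AddSubgroup L} (hF : brSpan F C ≤ F) (hF' : brSpan F' C ≤ F')
    (hswap : ∀ f ∈ F, ∀ x ∈ C, ∀ y ∈ C, ⁅f, ⁅x, y⁆⁆ ∈ F') {l₁ l₂ : List L} (hp : List.Perm l₁ l₂) :
    (∀ y ∈ l₁, y ∈ C) → ∀ f ∈ F, foldBr f l₁ - foldBr f l₂ ∈ F' := by
  induction hp with
  | nil => intro _ f _; rw [sub_self]; exact zero_mem _
  | cons x _ ih =>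
    intro hl f hf
    exact ih (fun y hy => hl y (List.mem_cons_of_mem _ hy)) _ (hF (lie_mem_brSpan hf (hl _ List.mem_cons_self)))
  | swap x y t =>
    intro hl f hf
    show foldBr ⁅⁅f, y⁆, x⁆ t - foldBr ⁅⁅f, x⁆, y⁆ t ∈ F'
    rw [← foldBr_sub]
    refine foldBr_mem hF' t ?_ fun z hz => hl z (by simp [hz])
    have hx : x ∈ C := hl x (by simp)
    have hy : y ∈ C := hl y (by simp)
    have h := hswap f hf y hy x hx
    rw [leibniz_lie f y x] at h
    rw [← lie_skew y ⁅f, x⁆, ← sub_eq_add_neg] at h
    exact h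
  | @trans l₁ l₂ l₃ h₁ _ ih₁ ih₂ =>
    intro hl f hf
    have h := add_mem (ih₁ hl f hf) (ih₂ (fun y hy => hl y (h₁.mem_iff.mpr hy)) f hf)
    rwa [sub_add_sub_cancel] at h

theorem exists_fiber_ge {ι : Type*} [Fintype ι] [DecidableEq ι] (e : ℕ) (l : List (ι × L))
    (hl : Fintype.card ι * e < l.length) : ∃ i, e ≤ (l.filter fun x => x.1 = i).length := by
  by_contra hcon
  push Not at hcon
  have h1 : ∀ l : List (ι × L), ∑ i, (l.filter fun x => x.1 = i).length = l.length := by
    intro l
    induction l with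
    | nil => simp
    | cons x l ih =>
      have : ∀ i, ((x :: l).filter fun x => x.1 = i).length =
          (l.filter fun x => x.1 = i).length + (if x.1 = i then 1 else 0) := by
        intro i
        by_cases h : x.1 = i <;> simp [List.filter_cons, h]
      rw [Finset.sum_congr rfl fun i _ => this i, Finset.sum_add_distrib, ih,
        Finset.sum_ite_eq, if_pos (Finset.mem_univ _), List.length_cons]
  have h2 : ∑ i, (l.filter fun x => x.1 = i).length ≤ ∑ _i : ι, e :=
    Finset.sum_le_sum fun i _ => (hcon i).le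
  rw [h1, Finset.sum_const, Finset.card_univ, smul_eq_mul] at h2
  omega

theorem stepIt_le_folds {ι : Type*} {S C : AddSubgroup L} (P : ι → AddSubgroup L) (hC : C ≤ ⨆ i, P i) :
    ∀ r, stepIt S C r ≤ AddSubgroup.closure {z | ∃ f ∈ S, ∃ l : List (ι × L), l.length = r ∧
      (∀ x ∈ l, x.2 ∈ P x.1) ∧ foldBr f (l.map Prod.snd) = z} := by
  intro r
  induction r with
  | zero => exact fun f hf => AddSubgroup.subset_closure ⟨f, hf, [], rfl, by simp, rfl⟩
  | succ r ih =>
    refine brSpan_le fun s hs c hc => ?_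
    have hs' := ih hs
    clear hs
    induction hs' using AddSubgroup.closure_induction with
    | mem z hz =>
      obtain ⟨f, hf, l, hlen, hl, rfl⟩ := hz
      have hc' := hC hc
      clear hc
      induction hc' using AddSubgroup.iSup_induction' with
      | hp i c hc =>
        refine AddSubgroup.subset_closure ⟨f, hf, l ++ [(i, c)], by simp [hlen], ?_, ?_⟩
        · intro x hx
          rcases List.mem_append.mp hx with hx | hx
          · exact hl x hx
          · rw [List.mem_singleton.mp hx]; exact hc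
        · rw [List.map_append, foldBr_append]; rfl
      | h1 => rw [lie_zero]; exact zero_mem _
      | hadd _ _ _ _ h1 h2 => rw [lie_add]; exact add_mem h1 h2
    | zero => rw [zero_lie]; exact zero_mem _
    | add _ _ _ _ h1 h2 => rw [add_lie]; exact add_mem h1 h2
    | neg _ _ h1 => rw [neg_lie]; exact neg_mem h1

/-- The key nilpotency criterion. -/
theorem stepIt_eq_bot_of_pieces {ι : Type*} [Fintype ι] (M : ℕ → AddSubgroup L)
    (hbr : ∀ t, brSpan (M t) (M t) ≤ M (t + 1)) (hle : ∀ t, M (t + 1) ≤ M t) {s : ℕ} (hs : M s = ⊥)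
    (P : ι → ℕ → AddSubgroup L) (hspan : ∀ t, M t ≤ ⨆ i, P i t) (hPM : ∀ i t, P i t ≤ M t) {e : ℕ}
    (hnil : ∀ i t (x : L) (l : List L), (∀ y ∈ l, y ∈ P i t) → l.length = e → foldBr x l = 0) :
    stepIt ⊤ (M 0) ((Fintype.card ι * e + 1) ^ s) = ⊥ := by
  classical
  set r := Fintype.card ι * e + 1
  suffices h : ∀ j t, t + j = s → stepIt ⊤ (M t) (r ^ j) = ⊥ from h s 0 (zero_add s)
  intro j
  induction j with
  | zero =>
    intro t ht
    rw [add_zero] at ht
    subst ht
    rw [pow_zero, hs]
    exact le_bot_iff.mp (brSpan_le fun _ _ c hc => by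
      rw [AddSubgroup.mem_bot.mp hc, lie_zero]; exact zero_mem _)
  | succ j ih =>
    intro t ht
    set F : ℕ → AddSubgroup L := fun u => stepIt ⊤ (M (t + 1)) u with hF
    have hinv : ∀ u, brSpan (F u) (M t) ≤ F u := by
      intro u
      induction u with
      | zero => exact le_top
      | succ u ihu =>
        refine brSpan_le fun f hf m hm => ?_
        induction hf using AddSubgroup.closure_induction with
        | mem z hz =>
          obtain ⟨f, hf, x, hx, rfl⟩ := hz
          rw [lie_lie, sub_eq_add_neg, lie_skew]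
          exact add_mem (lie_mem_brSpan hf (hbr t (lie_mem_brSpan (hle t hx) hm)))
            (lie_mem_brSpan (ihu (lie_mem_brSpan hf hm)) hx)
        | zero => rw [zero_lie]; exact zero_mem _
        | add _ _ _ _ h1 h2 => rw [add_lie]; exact add_mem h1 h2
        | neg _ _ h1 => rw [neg_lie]; exact neg_mem h1
    have hblock : ∀ u, stepIt (F u) (M t) r ≤ F (u + 1) := by
      intro u
      refine (stepIt_le_folds (fun i => P i t) (hspan t) r).trans ((AddSubgroup.closure_le _).mpr ?_)
      rintro _ ⟨f, hf, l, hlen, hl, rfl⟩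
      obtain ⟨i, hi⟩ := exists_fiber_ge e l (by omega)
      set A := (l.filter fun x => x.1 = i).map Prod.snd
      set B := (l.filter fun x => !decide (x.1 = i)).map Prod.snd
      have hperm : List.Perm (l.map Prod.snd) (A ++ B) := by
        rw [← List.map_append]
        exact ((List.filter_append_perm _ l).map Prod.snd).symm
      have hlM : ∀ y ∈ l.map Prod.snd, y ∈ M t := by
        intro y hy
        obtain ⟨x, hx, rfl⟩ := List.mem_map.mp hy
        exact hPM _ t (hl x hx)
      have h1 := foldBr_perm (hinv u) (hinv (u + 1))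
        (fun f hf x hx y hy => lie_mem_brSpan hf (hbr t (lie_mem_brSpan hx hy))) hperm hlM f hf
      have hA : ∀ y ∈ A, y ∈ P i t := by
        intro y hy
        obtain ⟨x, hx, rfl⟩ := List.mem_map.mp hy
        obtain ⟨hxl, hxi⟩ := List.mem_filter.mp hx
        exact (of_decide_eq_true hxi) ▸ hl x hxl
      have h2 : foldBr f (A ++ B) = 0 := by
        have hzero : foldBr f (A.take e) = 0 :=
          hnil i t f _ (fun y hy => hA y (List.mem_of_mem_take hy))
            (by rw [List.length_take, Nat.min_eq_left (by simpa [A] using hi)])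
        rw [foldBr_append, ← List.take_append_drop e A, foldBr_append, hzero, foldBr_zero, foldBr_zero]
      rw [h2, sub_zero] at h1
      exact h1
    have hmain : ∀ u, stepIt ⊤ (M t) (r * u) ≤ F u := by
      intro u
      induction u with
      | zero => exact le_rfl
      | succ u ihu =>
        rw [Nat.mul_succ, stepIt_add]
        exact (stepIt_mono ihu le_rfl r).trans (hblock u)
    rw [eq_bot_iff, pow_succ', ← ih (t + 1) (by omega)]
    exact hmain _

end Cfsg.Agent.CoprimeNilClass
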