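/-
Class bound for a nilpotent group covered by boundedly many subgroups acting nilpotently (helper83).

Main results (namespace `Cfsg.Agent.CoprimeNilClass`): `classBound`, `lcs_eq_bot_of_covering`.
-/
import Cfsg.Agent.Lib.CoprimeNilClass.Ops
import Cfsg.Agent.Lib.FPF.Basic
import Cfsg.Agent.Lib.AlperinFix.Fixed

set_option autoImplicit false
set_option linter.style.haveILetI false
open scoped commutatorElement

namespace Cfsg.Agent.CoprimeNilClass

open FPFLie (Gr lcs e)
open AlperinFix (dS lieDer)

/-- The derived chain of an additive subgroup of a Lie ring. -/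
def chain {L : Type*} [LieRing L] (M0 : AddSubgroup L) : ℕ → AddSubgroup L
  | 0 => M0
  | t + 1 => brSpan (chain M0 t) (chain M0 t)

theorem chain_top {L : Type*} [LieRing L] : ∀ t, chain (⊤ : AddSubgroup L) t = lieDer L t
  | 0 => rfl
  | t + 1 => by
    show brSpan (chain ⊤ t) (chain ⊤ t) = _
    rw [chain_top t]
    rfl

/-- Iterated group commutators. -/
def gfold {G : Type*} [Group G] (y : G) (l : List G) : G := l.foldl (fun z x => ⁅z, x⁆) y

/-- The class bound. -/
def classBound (p m ee s : ℕ) : ℕ :=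
  (m * ee + 1) ^ solvBound ((m * ee + 1) ^ s) (p - 1)

variable {G : Type*} [Group G]

/-- The elements of degree `w` with class in `M`. -/
def preSub (w : ℕ) (M : AddSubgroup (Gr G)) : Subgroup G where
  carrier := {k | k ∈ lcs G w ∧ e w k ∈ M}
  one_mem' := ⟨one_mem _, by rw [FPFLie.e_one]; exact zero_mem _⟩
  mul_mem' := fun ⟨ha, ha'⟩ ⟨hb, hb'⟩ => ⟨mul_mem ha hb, by rw [FPFLie.e_mul ha hb]; exact add_mem ha' hb'⟩
  inv_mem' := fun ⟨ha, ha'⟩ => ⟨inv_mem ha, by rw [FPFLie.e_inv ha]; exact neg_mem ha'⟩

variable {ι : Type*} (F : ι → Subgroup G) (M0 : AddSubgroup (Gr G))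

/-- The span of the classes of elements of `F i` lying in `M`. -/
def pieceOf (i : ι) (M : AddSubgroup (Gr G)) : AddSubgroup (Gr G) :=
  AddSubgroup.closure {z | ∃ w g, g ∈ F i ∧ g ∈ lcs G w ∧ z ∈ M ∧ e w g = z}

/-- The piece of `F i` in the `t`-th term of the chain. -/
noncomputable def piece (i : ι) (t : ℕ) : AddSubgroup (Gr G) := pieceOf F i (chain M0 t)

theorem piece_le (i : ι) (t : ℕ) : piece F M0 i t ≤ chain M0 t :=
  (AddSubgroup.closure_le _).mpr fun _ ⟨_, _, _, _, hz, _⟩ => hz

theorem chain_le (h0 : brSpan M0 M0 ≤ M0) : ∀ t, chain M0 (t + 1) ≤ chain M0 t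
  | 0 => h0
  | t + 1 => brSpan_mono (chain_le h0 t) (chain_le h0 t)

theorem e_pow {w : ℕ} {g : G} (hg : g ∈ lcs G w) : ∀ t : ℕ, e w (g ^ t) = t • e w g
  | 0 => by rw [pow_zero, FPFLie.e_one, zero_nsmul]
  | t + 1 => by rw [pow_succ, FPFLie.e_mul ((lcs G w).pow_mem hg t) hg, e_pow hg t, succ_nsmul]

theorem foldBr_piece_eq_zero (i : ι) (t : ℕ) : ∀ (j w : ℕ) (y : G), y ∈ lcs G w →
    (∀ l : List G, (∀ x ∈ l, x ∈ F i) → l.length = j → gfold y l = 1) →
    ∀ l : List (Gr G), (∀ x ∈ l, x ∈ piece F M0 i t) → l.length = j → foldBr (e w y) l = 0 := by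
  intro j
  induction j with
  | zero =>
    intro w y _ hR l _ hlen
    rw [List.length_eq_zero_iff.mp hlen]
    show e w y = 0
    rw [show y = 1 from hR [] (by simp) rfl, FPFLie.e_one]
  | succ j ih =>
    intro w y hy hR l hl hlen
    cases l with
    | nil => simp at hlen
    | cons x l' =>
      show foldBr ⁅e w y, x⁆ l' = 0
      have hx := hl x List.mem_cons_self
      have hl' : ∀ z ∈ l', z ∈ piece F M0 i t := fun z hz => hl z (List.mem_cons_of_mem _ hz)
      have hlen' : l'.length = j := by simpa using hlen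
      clear hl hlen
      induction hx using AddSubgroup.closure_induction with
      | mem z hz =>
        obtain ⟨v, g, hgF, hgv, -, rfl⟩ := hz
        rw [FPFLie.lie_e hy hgv]
        refine ih _ _ (FPFLie.comm_mem hy hgv le_rfl) (fun l hl hlen => ?_) l' hl' hlen'
        exact hR (g :: l) (fun z hz => by
          rcases List.mem_cons.mp hz with rfl | hz
          · exact hgF
          · exact hl z hz) (by simp [hlen])
      | zero => rw [lie_zero, foldBr_zero]
      | add a b _ _ h1 h2 =>
        rw [lie_add, ← sub_neg_eq_add, foldBr_sub, h1, ← zero_sub ⁅e w y, b⁆, foldBr_sub, foldBr_zero, h2]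
        simp
      | neg a _ h1 => rw [lie_neg, ← zero_sub ⁅e w y, a⁆, foldBr_sub, foldBr_zero, h1, sub_zero]

variable {A : Type*} [Group A] (act : A →* MulAut G)

theorem lcs_inv (w : ℕ) : FPF.Inv act (lcs G w) :=
  fun a _ hx => FPFLie.lcs_map_mem (act a).toMonoidHom hx

theorem preSub_inv {w : ℕ} {M : AddSubgroup (Gr G)}
    (hM : ∀ b, ∀ x ∈ M, FPFLie.grMap (act b).toMonoidHom x ∈ M) : FPF.Inv act (preSub w M) := by
  rintro b x ⟨hx, hxM⟩
  refine ⟨lcs_inv act w b x hx, ?_⟩
  have h := hM b _ hxM
  rwa [FPFLie.grMap_e _ hx] at h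

theorem chain_inv (h : ∀ b, ∀ x ∈ M0, FPFLie.grMap (act b).toMonoidHom x ∈ M0) :
    ∀ t b, ∀ x ∈ chain M0 t, FPFLie.grMap (act b).toMonoidHom x ∈ chain M0 t
  | 0 => h
  | t + 1 => by
    intro b x hx
    have : chain M0 (t + 1) ≤ (chain M0 (t + 1)).comap (FPFLie.grMap (act b).toMonoidHom) :=
      brSpan_le fun u hu v hv => by
        show FPFLie.grMap (act b).toMonoidHom ⁅u, v⁆ ∈ chain M0 (t + 1)
        rw [FPFLie.grMap_lie]
        exact lie_mem_brSpan (chain_inv h t b u hu) (chain_inv h t b v hv)
    exact this hx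

theorem inv_comm {H K : Subgroup G} (hH : FPF.Inv act H) (hK : FPF.Inv act K) : FPF.Inv act ⁅H, K⁆ := by
  intro b x hx
  have h : ⁅H, K⁆.map (act b).toMonoidHom ≤ ⁅H, K⁆ := by
    rw [Subgroup.map_commutator]
    refine Subgroup.commutator_mono ?_ ?_
    · rintro _ ⟨y, hy, rfl⟩; exact hH b y hy
    · rintro _ ⟨y, hy, rfl⟩; exact hK b y hy
  exact h ⟨x, hx, rfl⟩

theorem inv_inf {H K : Subgroup G} (hH : FPF.Inv act H) (hK : FPF.Inv act K) : FPF.Inv act (H ⊓ K) :=
  fun b x hx => ⟨hH b x hx.1, hK b x hx.2⟩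

variable {F} {M0}

theorem brSpan_pieces_le (hFinv : ∀ i, FPF.Inv act (F i))
    (hclo : ∀ i j (K : Subgroup G), FPF.Inv act K → K ≤ ⁅F i, F j⁆ → K ≤ ⨆ l, K ⊓ F l)
    {M M' : AddSubgroup (Gr G)} (hM : ∀ b, ∀ x ∈ M, FPFLie.grMap (act b).toMonoidHom x ∈ M)
    (hMM : brSpan M M ≤ M') :
    brSpan (⨆ i, pieceOf F i M) (⨆ i, pieceOf F i M) ≤ ⨆ i, pieceOf F i M' := by
  refine brSpan_le fun x hx y hy => ?_
  induction hx using AddSubgroup.iSup_induction' with
  | hp i x hx =>
    induction hy using AddSubgroup.iSup_induction' with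
    | hp j y hy =>
      induction hx using AddSubgroup.closure_induction with
      | mem z hz =>
        obtain ⟨u, g, hgF, hgu, hgM, rfl⟩ := hz
        induction hy using AddSubgroup.closure_induction with
        | mem z hz =>
          obtain ⟨v, h, hhF, hhv, hhM, rfl⟩ := hz
          rw [FPFLie.lie_e hgu hhv]
          set K1 := F i ⊓ preSub u M
          set K2 := F j ⊓ preSub v M
          have hK1 : FPF.Inv act K1 := inv_inf act (hFinv i) (preSub_inv act hM)
          have hK2 : FPF.Inv act K2 := inv_inf act (hFinv j) (preSub_inv act hM)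
          have hKle : ⁅K1, K2⁆ ≤ preSub (u + v + 1) M' :=
            Subgroup.commutator_le.mpr fun a ha b hb => ⟨FPFLie.comm_mem ha.2.1 hb.2.1 le_rfl, by
              rw [← FPFLie.lie_e ha.2.1 hb.2.1]; exact hMM (lie_mem_brSpan ha.2.2 hb.2.2)⟩
          have hfin : ⁅K1, K2⁆ ≤ preSub (u + v + 1) (⨆ l, pieceOf F l M') := by
            refine (hclo i j _ (inv_comm act hK1 hK2)
              (Subgroup.commutator_mono inf_le_left inf_le_left)).trans (iSup_le fun l k hk => ?_)
            obtain ⟨hkw, hkM⟩ := hKle hk.1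
            exact ⟨hkw, AddSubgroup.mem_iSup_of_mem l
              (AddSubgroup.subset_closure ⟨_, k, hk.2, hkw, hkM, rfl⟩)⟩
          exact (hfin (Subgroup.commutator_mem_commutator ⟨hgF, hgu, hgM⟩ ⟨hhF, hhv, hhM⟩)).2
        | zero => rw [lie_zero]; exact zero_mem _
        | add _ _ _ _ h1 h2 => rw [lie_add]; exact add_mem h1 h2
        | neg _ _ h1 => rw [lie_neg]; exact neg_mem h1
      | zero => rw [zero_lie]; exact zero_mem _
      | add _ _ _ _ h1 h2 => rw [add_lie]; exact add_mem h1 h2
      | neg _ _ h1 => rw [neg_lie]; exact neg_mem h1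
    | h1 => rw [lie_zero]; exact zero_mem _
    | hadd _ _ _ _ h1 h2 => rw [lie_add]; exact add_mem h1 h2
  | h1 => rw [zero_lie]; exact zero_mem _
  | hadd _ _ _ _ h1 h2 => rw [add_lie]; exact add_mem h1 h2

theorem chain_spanned (hFinv : ∀ i, FPF.Inv act (F i))
    (hclo : ∀ i j (K : Subgroup G), FPF.Inv act K → K ≤ ⁅F i, F j⁆ → K ≤ ⨆ l, K ⊓ F l)
    (hinv : ∀ b, ∀ x ∈ M0, FPFLie.grMap (act b).toMonoidHom x ∈ M0)
    (hbase : chain M0 0 ≤ ⨆ i, piece F M0 i 0) : ∀ t, chain M0 t ≤ ⨆ i, piece F M0 i t
  | 0 => hbase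
  | t + 1 => by
    have ih := chain_spanned hFinv hclo hinv hbase t
    exact (brSpan_mono ih ih).trans (brSpan_pieces_le act hFinv hclo (chain_inv M0 act hinv t) le_rfl)

theorem piece_succ_le (h0 : brSpan M0 M0 ≤ M0) (i : ι) (t : ℕ) : piece F M0 i (t + 1) ≤ piece F M0 i t :=
  AddSubgroup.closure_mono fun _ ⟨w, g, h1, h2, h3, h4⟩ => ⟨w, g, h1, h2, chain_le M0 h0 t h3, h4⟩

theorem base_top (hFinv : ∀ i, FPF.Inv act (F i)) (hgen : ⨆ i, F i = ⊤)
    (hclo : ∀ i j (K : Subgroup G), FPF.Inv act K → K ≤ ⁅F i, F j⁆ → K ≤ ⨆ l, K ⊓ F l) :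
    chain (⊤ : AddSubgroup (Gr G)) 0 ≤ ⨆ i, piece F ⊤ i 0 := by
  have h0 : ⊤ ≤ preSub 0 (⨆ i, pieceOf F i (⊤ : AddSubgroup (Gr G))) := by
    rw [← hgen]
    exact iSup_le fun i k hk => ⟨Subgroup.mem_top _, AddSubgroup.mem_iSup_of_mem i
      (AddSubgroup.subset_closure ⟨0, k, hk, Subgroup.mem_top _, AddSubgroup.mem_top _, rfl⟩)⟩
  have key : ∀ w, lcs G w ≤ preSub w (⨆ i, pieceOf F i (⊤ : AddSubgroup (Gr G))) := by
    intro w
    induction w with
    | zero => exact le_top.trans h0
    | succ w ih =>
      refine Subgroup.commutator_le.mpr fun a ha b hb => ⟨Subgroup.commutator_mem_commutator ha hb, ?_⟩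
      rw [show w + 1 = w + 0 + 1 from rfl, ← FPFLie.lie_e (i := w) (j := 0) ha hb]
      exact brSpan_pieces_le act hFinv hclo (fun _ _ _ => AddSubgroup.mem_top _) le_top
        (lie_mem_brSpan (ih ha).2 (h0 (Subgroup.mem_top b)).2)
  intro x hx
  clear hx
  induction x using FPFLie.gr_induction with
  | h0 => exact zero_mem _
  | hadd x y hx hy => exact add_mem hx hy
  | he w g hg => exact (key w hg).2

theorem card_nsmul_gr [Finite G] (x : Gr G) : Nat.card G • x = 0 := by
  induction x using FPFLie.gr_induction with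
  | h0 => exact nsmul_zero _
  | hadd x y hx hy => rw [nsmul_add, hx, hy, add_zero]
  | he w g hg => rw [← e_pow hg, pow_card_eq_one', FPFLie.e_one]

/-- The main class bound. -/
theorem lcs_eq_bot_of_covering [Finite G] [Group.IsNilpotent G] [Fintype ι] {p : ℕ} [hp : Fact p.Prime]
    (hpG : ¬ p ∣ Nat.card G) (hAc : ∀ b c : A, b * c = c * b) (hFinv : ∀ i, FPF.Inv act (F i))
    (hgen : ⨆ i, F i = ⊤)
    (hclo : ∀ i j (K : Subgroup G), FPF.Inv act K → K ≤ ⁅F i, F j⁆ → K ≤ ⨆ l, K ⊓ F l) {ee : ℕ}
    (heng : ∀ i (K : Subgroup G), FPF.Inv act K → K ≤ Subgroup.closure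
      {y | y ∈ K ∧ ∀ l : List G, (∀ x ∈ l, x ∈ F i) → l.length = ee → gfold y l = 1})
    (a : A) (ha : a ^ p = 1) {s : ℕ} (hsol : dS (FPF.fixBy act a) s = ⊥) :
    lcs G (classBound p (Fintype.card ι) ee s) = ⊥ := by
  classical
  set T : Gr G →+ Gr G := FPFLie.grMap (act a).toMonoidHom with hTdef
  let C : AddSubgroup (Gr G) :=
    { carrier := {x | T x = x}
      zero_mem' := map_zero T
      add_mem' := fun {x y} (hx : T x = x) (hy : T y = y) => show T (x + y) = x + y by rw [map_add, hx, hy]
      neg_mem' := fun {x} (hx : T x = x) => show T (-x) = -x by rw [map_neg, hx] }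
  have hnil : ∀ (M : AddSubgroup (Gr G)) i t (x : Gr G) (l : List (Gr G)),
      (∀ y ∈ l, y ∈ piece F M i t) → l.length = ee → foldBr x l = 0 := by
    intro M i t x l hl hlen
    induction x using FPFLie.gr_induction with
    | h0 => exact foldBr_zero l
    | hadd x y hx hy =>
      rw [← sub_neg_eq_add, foldBr_sub, hx, ← zero_sub y, foldBr_sub, foldBr_zero, hy]
      simp
    | he w g hg =>
      have hle : lcs G w ≤ preSub w (({ carrier := {z | foldBr z l = 0}
                                        zero_mem' := foldBr_zero l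
                                        add_mem' := fun {x y} hx hy => by
                                          show foldBr (x + y) l = 0
                                          rw [← sub_neg_eq_add, foldBr_sub, hx, ← zero_sub y, foldBr_sub,
                                            foldBr_zero, hy]
                                          simp
                                        neg_mem' := fun {x} hx => by
                                          show foldBr (-x) l = 0
                                          rw [← zero_sub x, foldBr_sub, foldBr_zero, hx, sub_zero] } :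
          AddSubgroup (Gr G))) := by
        refine (heng i _ (lcs_inv act w)).trans ((Subgroup.closure_le _).mpr ?_)
        rintro y ⟨hy, hR⟩
        exact ⟨hy, foldBr_piece_eq_zero F M i t ee w y hy hR l hl hlen⟩
      exact (hle hg).2
  have hTit : ∀ (m : ℕ) w (g : G), g ∈ lcs G w →
      T^[m] (e w g) = e w (act (a ^ m) g) ∧ act (a ^ m) g ∈ lcs G w := by
    intro m
    induction m with
    | zero => intro w g hg; rw [pow_zero, map_one]; exact ⟨rfl, hg⟩
    | succ m ih =>
      intro w g hg
      obtain ⟨h1, h2⟩ := ih w g hg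
      rw [Function.iterate_succ_apply', h1, hTdef, FPFLie.grMap_e _ h2, pow_succ', map_mul]
      exact ⟨rfl, FPFLie.lcs_map_mem (act a).toMonoidHom h2⟩
  have hTp : ∀ x, T^[p] x = x := by
    intro x
    induction x using FPFLie.gr_induction with
    | h0 => exact iterate_map_zero T p
    | hadd x y hx hy => rw [iterate_map_add, hx, hy]
    | he w g hg => rw [(hTit p w g hg).1, ha, map_one]; rfl
  obtain ⟨q, hq⟩ : ∃ q : ℤ, ∀ x : Gr G, q • (p • x) = x := by
    refine ⟨Nat.gcdA p (Nat.card G), fun x => ?_⟩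
    have h1 := Nat.gcd_eq_gcd_ab p (Nat.card G)
    rw [(hp.out.coprime_iff_not_dvd.mpr hpG).gcd_eq_one, Nat.cast_one] at h1
    conv_rhs => rw [← one_zsmul x, h1, add_smul, mul_comm (p : ℤ), mul_smul, mul_comm (Nat.card G : ℤ), mul_smul,
      natCast_zsmul, natCast_zsmul, card_nsmul_gr, smul_zero, add_zero]
  have hCinv : ∀ b, ∀ x ∈ C, FPFLie.grMap (act b).toMonoidHom x ∈ C := by
    intro b x hx
    show T (FPFLie.grMap _ x) = FPFLie.grMap _ x
    have hcomm : (act a).toMonoidHom.comp (act b).toMonoidHom = (act b).toMonoidHom.comp (act a).toMonoidHom := by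
      refine MonoidHom.ext fun g => ?_
      show act a (act b g) = act b (act a g)
      rw [← MulAut.mul_apply, ← MulAut.mul_apply, ← map_mul, ← map_mul, hAc a b]
    rw [hTdef, ← FPFLie.grMap_comp, hcomm, FPFLie.grMap_comp]
    exact congrArg _ hx
  have hCbr : brSpan C C ≤ C := brSpan_le fun x hx y hy => by
    show T ⁅x, y⁆ = ⁅x, y⁆
    rw [hTdef, FPFLie.grMap_lie]
    exact congrArg₂ _ hx hy
  have htopinv : ∀ b, ∀ x ∈ (⊤ : AddSubgroup (Gr G)), FPFLie.grMap (act b).toMonoidHom x ∈ (⊤ : AddSubgroup (Gr G)) :=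
    fun _ _ _ => AddSubgroup.mem_top _
  have hLbase := base_top act hFinv hgen hclo
  have havg : ∀ x : Gr G, T (∑ m : ZMod p, T^[m.val] x) = ∑ m : ZMod p, T^[m.val] x :=
    AlperinFix.map_trace T hTp
  have hfixsum : ∀ x ∈ C, ∑ m : ZMod p, T^[m.val] x = p • x := by
    intro x hx
    rw [Finset.sum_congr rfl fun m _ => Function.iterate_fixed hx m.val, Finset.sum_const, Finset.card_univ,
      ZMod.card]
  have hCbase : chain C 0 ≤ ⨆ i, piece F C i 0 := by
    intro x hx
    let S : Gr G →+ Gr G :=
      AddMonoidHom.mk' (fun x => ∑ m : ZMod p, T^[m.val] x) fun x y => by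
        rw [← Finset.sum_add_distrib]
        exact Finset.sum_congr rfl fun m _ => iterate_map_add T _ x y
    have hle : (⨆ i, piece F ⊤ i 0) ≤ (⨆ i, piece F C i 0).comap S := by
      refine iSup_le fun i => (AddSubgroup.closure_le _).mpr ?_
      rintro _ ⟨w, g, hgF, hgw, -, rfl⟩
      have hK : ∀ m : ℕ, act (a ^ m) g ∈ F i ⊓ lcs G w := fun m =>
        ⟨hFinv i _ g hgF, (hTit m w g hgw).2⟩
      have hex : ∀ s : Finset (ZMod p), ∃ h ∈ F i ⊓ lcs G w, e w h = ∑ m ∈ s, T^[m.val] (e w g) := by
        intro s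
        induction s using Finset.induction_on with
        | empty => exact ⟨1, one_mem _, by rw [FPFLie.e_one, Finset.sum_empty]⟩
        | insert m s hms ih =>
          obtain ⟨h, hh, he⟩ := ih
          refine ⟨act (a ^ m.val) g * h, mul_mem (hK _) hh, ?_⟩
          rw [FPFLie.e_mul (hK _).2 hh.2, he, Finset.sum_insert hms, (hTit m.val w g hgw).1]
      obtain ⟨h, hh, he⟩ := hex Finset.univ
      refine AddSubgroup.mem_iSup_of_mem i (AddSubgroup.subset_closure ⟨w, h, hh.1, hh.2, ?_, he⟩)
      exact havg (e w g)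
    have h2 : S x ∈ ⨆ i, piece F C i 0 := hle (hLbase (AddSubgroup.mem_top x))
    rw [← hq x]
    refine AddSubgroup.zsmul_mem _ ?_ q
    rw [← hfixsum x hx]
    exact h2
  have hCs : chain C s = ⊥ := by
    have key : ∀ t, chain C t ≤
        AddSubgroup.closure {z | ∃ w g, g ∈ dS (FPF.fixBy act a) t ∧ g ∈ lcs G w ∧ e w g = z} := by
      intro t
      induction t with
      | zero =>
        intro x hx
        have hpx : p • x ∈ AddSubgroup.closure
            {z | ∃ w g, g ∈ dS (FPF.fixBy act a) 0 ∧ g ∈ lcs G w ∧ e w g = z} := by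
          rw [← hfixsum x hx]
          clear hx
          induction x using FPFLie.gr_induction with
          | h0 => simp only [iterate_map_zero, Finset.sum_const_zero]; exact zero_mem _
          | hadd x y hx hy => simp only [iterate_map_add, Finset.sum_add_distrib]; exact add_mem hx hy
          | he w g hg =>
            have hex : ∀ s : Finset (ZMod p), ∃ h ∈ lcs G w, e w h = ∑ m ∈ s, T^[m.val] (e w g) := by
              intro s
              induction s using Finset.induction_on with
              | empty => exact ⟨1, one_mem _, by rw [FPFLie.e_one, Finset.sum_empty]⟩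
              | insert m s hms ih =>
                obtain ⟨h, hh, he⟩ := ih
                refine ⟨act (a ^ m.val) g * h, mul_mem (hTit m.val w g hg).2 hh, ?_⟩
                rw [FPFLie.e_mul (hTit m.val w g hg).2 hh, he, Finset.sum_insert hms, (hTit m.val w g hg).1]
            obtain ⟨h, hh, he⟩ := hex Finset.univ
            rw [← he]
            have hmh : (act a) h ∈ lcs G w := FPFLie.lcs_map_mem (act a).toMonoidHom hh
            have hfix : h⁻¹ * act a h ∈ lcs G (w + 1) := by
              refine FPFLie.mem_of_e_eq_zero (mul_mem (inv_mem hh) hmh) ?_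
              have h1 : e w (act a h) = e w h := by
                have h2 := havg (e w g)
                rw [← he, hTdef, FPFLie.grMap_e _ hh] at h2
                exact h2
              rw [FPFLie.e_mul (inv_mem hh) hmh, FPFLie.e_inv hh, h1, neg_add_cancel]
            let Z := Subgroup.zpowers a
            have hZ : IsPGroup p Z := by
              intro z
              obtain ⟨i, hi⟩ := Subgroup.mem_zpowers_iff.mp z.2
              refine ⟨1, Subtype.ext ?_⟩
              rw [SubgroupClass.coe_pow, ← hi, pow_one, ← zpow_natCast, ← zpow_mul, mul_comm, zpow_mul,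
                zpow_natCast, ha, one_zpow]
              rfl
            have hinvZ : FPF.Inv (act.comp Z.subtype) (lcs G (w + 1)) := fun z x hx => lcs_inv act (w + 1) z x hx
            have hall : ∀ z : Z, h⁻¹ * (act.comp Z.subtype) z h ∈ lcs G (w + 1) := by
              intro z
              show h⁻¹ * act (z : A) h ∈ lcs G (w + 1)
              obtain ⟨i, hi⟩ := Subgroup.mem_zpowers_iff.mp z.2
              have hnat : ∀ m : ℕ, h⁻¹ * act (a ^ m) h ∈ lcs G (w + 1) := by
                intro m
                induction m with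
                | zero => rw [pow_zero, map_one]; show h⁻¹ * h ∈ _; rw [inv_mul_cancel]; exact one_mem _
                | succ m ihm =>
                  rw [pow_succ', map_mul]
                  have h3 := lcs_inv act (w + 1) a _ ihm
                  rw [map_mul, map_inv] at h3
                  have h4 := mul_mem hfix h3
                  rw [mul_assoc, mul_inv_cancel_left] at h4
                  exact h4
              have hlt : i % (p : ℤ) = ((i % (p : ℤ)).toNat : ℕ) :=
                (Int.toNat_of_nonneg (Int.emod_nonneg _ (by exact_mod_cast hp.out.ne_zero))).symm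
              rw [← hi, ← Int.ediv_mul_add_emod i p, zpow_add, mul_comm (i / (p : ℤ)), zpow_mul, zpow_natCast, ha,
                one_zpow, one_mul, hlt, zpow_natCast]
              exact hnat _
            obtain ⟨y, hy, hyf⟩ := FPF.exists_fixed_in_coset (p := p) (act.comp Z.subtype) hZ (lcs G (w + 1)) hinvZ
              (FPF.not_dvd_card_subgroup hpG _) h hall
            have hyw : y ∈ lcs G w := by
              rw [show y = h * (h⁻¹ * y) by group]
              exact mul_mem hh (FPFLie.lcs_mono w.le_succ hy)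
            exact AddSubgroup.subset_closure
              ⟨w, y, hyf ⟨a, Subgroup.mem_zpowers a⟩, hyw, FPFLie.e_congr hh hy⟩
        rw [← hq x]
        exact AddSubgroup.zsmul_mem _ hpx q
      | succ t ih =>
        refine brSpan_le fun x hx y hy => ?_
        have hx' := ih hx
        have hy' := ih hy
        clear hx hy
        induction hx' using AddSubgroup.closure_induction with
        | mem z hz =>
          obtain ⟨u, g, hg, hgu, rfl⟩ := hz
          induction hy' using AddSubgroup.closure_induction with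
          | mem z hz =>
            obtain ⟨v, h, hh, hhv, rfl⟩ := hz
            rw [FPFLie.lie_e hgu hhv]
            exact AddSubgroup.subset_closure ⟨_, _, Subgroup.commutator_mem_commutator hg hh,
              FPFLie.comm_mem hgu hhv le_rfl, rfl⟩
          | zero => rw [lie_zero]; exact zero_mem _
          | add _ _ _ _ h1 h2 => rw [lie_add]; exact add_mem h1 h2
          | neg _ _ h1 => rw [lie_neg]; exact neg_mem h1
        | zero => rw [zero_lie]; exact zero_mem _
        | add _ _ _ _ h1 h2 => rw [add_lie]; exact add_mem h1 h2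
        | neg _ _ h1 => rw [neg_lie]; exact neg_mem h1
    refine le_bot_iff.mp ((key s).trans ((AddSubgroup.closure_le _).mpr ?_))
    rintro _ ⟨w, g, hg, -, rfl⟩
    rw [hsol, Subgroup.mem_bot] at hg
    rw [hg, SetLike.mem_coe, FPFLie.e_one]
    exact zero_mem _
  set r := Fintype.card ι * ee + 1
  have hCad : stepIt ⊤ C (r ^ s) = ⊥ :=
    stepIt_eq_bot_of_pieces (chain C) (fun t => le_rfl) (chain_le C hCbr) hCs (fun i t => piece F C i t)
      (chain_spanned act hFinv hclo hCinv hCbase) (piece_le F C) (hnil C)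
  have htor : ∀ x : Gr G, p • x = 0 → x = 0 := fun x hx => by rw [← hq x, hx, smul_zero]
  have hder := lieDer_eq_bot_of_ad htor T (FPFLie.grMap_lie _) hTp C (fun x hx => hx) hCad
  rw [← chain_top] at hder
  have hLad : stepIt (⊤ : AddSubgroup (Gr G)) ⊤ (classBound p (Fintype.card ι) ee s) = ⊥ :=
    stepIt_eq_bot_of_pieces (chain ⊤) (fun t => le_rfl) (chain_le ⊤ le_top) hder (fun i t => piece F ⊤ i t)
      (chain_spanned act hFinv hclo htopinv hLbase) (piece_le F ⊤) (hnil ⊤)
  have hlcs : ∀ w, lcs G w ≤ preSub w (stepIt (⊤ : AddSubgroup (Gr G)) ⊤ w) := by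
    intro w
    induction w with
    | zero => exact fun g _ => ⟨Subgroup.mem_top _, AddSubgroup.mem_top _⟩
    | succ w ih =>
      refine Subgroup.commutator_le.mpr fun g hg h hh => ⟨Subgroup.commutator_mem_commutator hg hh, ?_⟩
      rw [show w + 1 = w + 0 + 1 from rfl, ← FPFLie.lie_e (i := w) (j := 0) hg hh]
      exact lie_mem_brSpan (ih hg).2 (AddSubgroup.mem_top _)
  refine FPFLie.lcs_eq_of_step fun g hg => FPFLie.mem_of_e_eq_zero hg ?_
  have h := (hlcs _ hg).2
  rw [hLad] at h
  exact AddSubgroup.mem_bot.mp h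

end Cfsg.Agent.CoprimeNilClass
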