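/-
A normal subgroup covered by operator-invariant subgroups lying in nilpotent subgroups attached to the fixed
points is nilpotent of bounded class (helper83).

Main results (namespace `Cfsg.Agent.CoprimeNilClass`): `Cover`, `Cover.isNilpotent`, `Cover.lcs_eq_bot`.
-/
import Cfsg.Agent.Lib.CoprimeNilClass.Graded
import Cfsg.Agent.Lib.CoprimeNilClass.Generation
import Cfsg.Agent.Lib.FPF.Chief
import Cfsg.Agent.Lib.AlperinFix.Good

set_option autoImplicit false
set_option linter.style.haveILetI false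
open scoped commutatorElement

namespace Cfsg.Agent.CoprimeNilClass

open Cfsg.Agent.FPF (Inv fixBy)
open AlperinFix (dS)

variable {A G : Type*} [Group A] [Group G] [Finite A] [Finite G]

/-- The covering hypothesis. -/
structure Cover (act : A →* MulAut G) (N : Subgroup G) {ι : Type*} (F : ι → Subgroup G) (c : ℕ) : Prop where
  normal : N.Normal
  inv : Inv act N
  finv : ∀ i, Inv act (F i)
  gen : ⨆ i, F i = N
  clo : ∀ i j (K : Subgroup G), Inv act K → K ≤ ⁅F i, F j⁆ → K ≤ ⨆ l, K ⊓ F l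
  eng : ∀ i, ∃ B : Subgroup A, ¬ IsCyclic B ∧ ∀ b ∈ B, b ≠ 1 → ∃ T : Subgroup G, F i ≤ T ∧
    (∀ y ∈ fixBy act b, ∀ x ∈ T, ⁅y, x⁆ ∈ T) ∧ T.lowerCentralSeries c = ⊥

omit [Finite G] in
theorem gfold_mem_lcs {T : Subgroup G} : ∀ (l : List G) (j : ℕ) {z : G}, z ∈ T.lowerCentralSeries j →
    (∀ x ∈ l, x ∈ T) → gfold z l ∈ T.lowerCentralSeries (j + l.length)
  | [], _, _, hz, _ => hz
  | x :: l, j, z, hz, hl => by
    have h := gfold_mem_lcs l (j + 1) (z := ⁅z, x⁆)
      (Subgroup.commutator_mem_commutator hz (hl x List.mem_cons_self))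
      fun y hy => hl y (List.mem_cons_of_mem _ hy)
    rw [List.length_cons, show j + (l.length + 1) = j + 1 + l.length by omega]
    exact h

omit [Finite G] in
theorem gfold_eq_one {T : Subgroup G} {c : ℕ} (hc : T.lowerCentralSeries c = ⊥) {y : G}
    (hy : ∀ x ∈ T, ⁅y, x⁆ ∈ T) {l : List G} (hl : ∀ x ∈ l, x ∈ T) (hlen : l.length = c + 1) :
    gfold y l = 1 := by
  cases l with
  | nil => simp at hlen
  | cons x l =>
    have h := gfold_mem_lcs l 0 (z := ⁅y, x⁆) (hy x (hl x List.mem_cons_self))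
      fun z hz => hl z (List.mem_cons_of_mem _ hz)
    rw [show l.length = c by simpa using hlen, zero_add, hc, Subgroup.mem_bot] at h
    exact h

omit [Finite A] [Finite G] in
theorem inv_normal_sup {act : A →* MulAut G} {H K : Subgroup G} (hH : H.Normal) (hK : K.Normal)
    (hHi : Inv act H) (hKi : Inv act K) : (H ⊔ K).Normal ∧ Inv act (H ⊔ K) :=
  ⟨Subgroup.sup_normal H K, FPF.inv_sup act hHi hKi⟩

namespace Cover

variable {act : A →* MulAut G} {N : Subgroup G} {ι : Type*} {F : ι → Subgroup G} {c : ℕ}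
  (C : Cover act N F c) (hAc : ∀ a b : A, a * b = b * a) (hcop : (Nat.card A).Coprime (Nat.card G))

include C hAc hcop

/-- A `q'`-element of some `F i` centralises every invariant `q`-section. -/
theorem comm_mem_of_coprime {U V : Subgroup G} (hU : U.Normal) (hV : V.Normal) (hUi : Inv act U)
    (hab : ⁅U, U⁆ ≤ V) {q : ℕ} (hq : ∀ u ∈ U, u ^ q ∈ V) {i : ι} {y : G} (hy : y ∈ F i)
    (hr : (orderOf y).Coprime q) {u : G} (hu : u ∈ U) : ⁅y, u⁆ ∈ V := by
  obtain ⟨B, hB, hT⟩ := C.eng i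
  haveI := hV
  let W : Subgroup G := (Subgroup.centralizer {(y : G ⧸ V)}).comap (QuotientGroup.mk' V)
  have hW : U ≤ W := by
    refine le_of_fixed_noncyclic act hAc hcop hB hUi fun b hb hb1 => ?_
    obtain ⟨T, hFT, hTn, hTc⟩ := hT b hb hb1
    rintro x ⟨hxU, hxb⟩
    have key : ∀ j : ℕ, ∀ a ∈ U, gfold a (List.replicate (j + 1) y) ∈ V → ⁅a, y⁆ ∈ V := by
      intro j
      induction j with
      | zero => exact fun a _ h => h
      | succ j ih =>
        intro a ha h
        have hzU : ⁅a, y⁆ ∈ U := Subgroup.commutator_le_left U ⊤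
          (Subgroup.commutator_mem_commutator ha (Subgroup.mem_top y))
        have h2 : ⁅⁅a, y⁆, y⁆ ∈ V := ih ⁅a, y⁆ hzU h
        set Y : G ⧸ V := (y : G ⧸ V)
        set a' : G ⧸ V := (a : G ⧸ V)
        set z : G ⧸ V := ((⁅a, y⁆ : G) : G ⧸ V)
        have hz : z = a' * Y * a'⁻¹ * Y⁻¹ := rfl
        have hzy : Commute z Y := AlperinFix.commute_mk_of_mem h2
        have h1 : Y * a' * Y⁻¹ = z⁻¹ * a' := by rw [hz]; group
        have hit : ∀ m : ℕ, Y ^ m * a' * (Y ^ m)⁻¹ = (z⁻¹) ^ m * a' := by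
          intro m
          induction m with
          | zero => simp
          | succ m ihm =>
            calc Y ^ (m + 1) * a' * (Y ^ (m + 1))⁻¹ = Y * (Y ^ m * a' * (Y ^ m)⁻¹) * Y⁻¹ := by group
              _ = Y * ((z⁻¹) ^ m * a') * Y⁻¹ := by rw [ihm]
              _ = (z⁻¹) ^ m * (Y * a' * Y⁻¹) := by
                rw [← mul_assoc Y, ← ((hzy.inv_left).pow_left m).eq]; group
              _ = _ := by rw [h1, pow_succ, mul_assoc]
        have h3 := hit (orderOf y)
        rw [show Y ^ orderOf y = 1 by rw [← QuotientGroup.mk_pow, pow_orderOf_eq_one, QuotientGroup.mk_one],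
          one_mul, inv_one, mul_one, eq_comm, mul_eq_right, inv_pow, inv_eq_one] at h3
        have h4 : z ^ q = 1 := by
          rw [← QuotientGroup.mk_pow, QuotientGroup.eq_one_iff]
          exact hq _ hzU
        refine (QuotientGroup.eq_one_iff _).mp ?_
        rw [← orderOf_eq_one_iff]
        exact Nat.eq_one_of_dvd_coprimes hr (orderOf_dvd_of_pow_eq_one h3) (orderOf_dvd_of_pow_eq_one h4)
    have hfin : ⁅x, y⁆ ∈ V := key c x hxU (by
      rw [gfold_eq_one hTc (fun z hz => hTn x hxb z hz)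
        (fun z hz => (List.eq_of_mem_replicate hz) ▸ hFT hy) (by simp)]
      exact one_mem _)
    exact Subgroup.mem_centralizer_singleton_iff.mpr (AlperinFix.commute_mk_of_mem hfin).eq
  exact AlperinFix.mem_of_commute_mk (Subgroup.mem_centralizer_singleton_iff.mp (hW hu) : _).symm

/-- The covered subgroup is nilpotent. -/
theorem isNilpotent [hGs : Group.IsSolvable G] :
    ∃ w, N.lowerCentralSeries w = ⊥ := by
  by_contra hcon
  obtain ⟨V, ⟨hVn, hVi, hVfail⟩, hVmax⟩ := (Set.toFinite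
      {V : Subgroup G | V.Normal ∧ Inv act V ∧ ∀ w, ¬ N.lowerCentralSeries w ≤ V}).exists_maximal
    ⟨⊥, inferInstance, fun a x hx => by rw [Subgroup.mem_bot] at hx ⊢; rw [hx, map_one],
      fun w h => hcon ⟨w, le_bot_iff.mp h⟩⟩
  haveI := C.normal
  haveI := hVn
  have hNV : ¬ N ≤ V := fun h => hVfail 0 h
  obtain ⟨U, ⟨hUn, hUi, hVU, hUle⟩, hUmin⟩ := (Set.toFinite
      {U : Subgroup G | U.Normal ∧ Inv act U ∧ V < U ∧ U ≤ V ⊔ N}).exists_minimal
    ⟨V ⊔ N, (inv_normal_sup hVn C.normal hVi C.inv).1, (inv_normal_sup hVn C.normal hVi C.inv).2,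
      left_lt_sup.mpr hNV, le_rfl⟩
  haveI := hUn
  obtain ⟨w, hw⟩ : ∃ w, N.lowerCentralSeries w ≤ U := by
    by_contra h
    push Not at h
    exact hVU.not_ge (hVmax ⟨hUn, hUi, h⟩ hVU.le)
  -- the section is abelian
  set π := QuotientGroup.mk' V
  have hab : ⁅U, U⁆ ≤ V := by
    set W := ⁅U, U⁆ ⊔ V
    obtain ⟨hWn, hWi⟩ := inv_normal_sup (act := act) (Subgroup.commutator_normal U U) hVn
      (inv_comm act hUi hUi) hVi
    rcases (show V ≤ W from le_sup_right).eq_or_lt with he | hlt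
    · exact le_sup_left.trans he.ge
    exfalso
    have hWU : W ≤ U := sup_le (Subgroup.commutator_le_left U U) hVU.le
    have hUW : U ≤ W := hUmin ⟨hWn, hWi, hlt, hWU.trans hUle⟩ hWU
    have h1 : U.map π ≤ ⁅U.map π, U.map π⁆ := by
      refine (Subgroup.map_mono hUW).trans ?_
      rw [Subgroup.map_sup, Subgroup.map_commutator, QuotientGroup.map_mk'_self, sup_bot_eq]
    have h2 : ∀ t, U.map π ≤ dS (U.map π) t := by
      intro t
      induction t with
      | zero => exact le_rfl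
      | succ t ih => exact h1.trans (Subgroup.commutator_mono ih ih)
    haveI : Group.IsSolvable (G ⧸ V) := Group.isSolvable_of_surjective (f := π) (QuotientGroup.mk'_surjective V)
    obtain ⟨t, ht⟩ := (inferInstance : Group.IsSolvable (G ⧸ V)).solvable
    refine hVU.not_ge ?_
    have h3 : U.map π = ⊥ := le_bot_iff.mp ((h2 t).trans ((AlperinFix.dS_mono le_top t).trans
      (le_of_eq (by rw [AlperinFix.dS_top, ht]))))
    rwa [Subgroup.map_eq_bot_iff, QuotientGroup.ker_mk'] at h3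
  have hcm : ∀ x ∈ U, ∀ y ∈ U, Commute (x : G ⧸ V) (y : G ⧸ V) := fun x hx y hy =>
    AlperinFix.commute_mk_of_mem (hab (Subgroup.commutator_mem_commutator hx hy))
  -- of prime exponent
  obtain ⟨u₀, hu₀U, hu₀V⟩ := SetLike.exists_of_lt hVU
  have hne : (u₀ : G ⧸ V) ≠ 1 := fun h => hu₀V ((QuotientGroup.eq_one_iff _).mp h)
  obtain ⟨q, hq, hqd⟩ := Nat.exists_prime_and_dvd (mt orderOf_eq_one_iff.mp hne)
  haveI := Fact.mk hq
  have hexp : ∀ u ∈ U, u ^ q ∈ V := by
    let W : Subgroup G :=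
      { carrier := {u | u ∈ U ∧ u ^ q ∈ V}
        one_mem' := ⟨one_mem _, by rw [one_pow]; exact one_mem _⟩
        mul_mem' := fun {a b} ⟨ha, ha'⟩ ⟨hb, hb'⟩ => ⟨mul_mem ha hb, by
          rw [← QuotientGroup.eq_one_iff, QuotientGroup.mk_pow, QuotientGroup.mk_mul, (hcm a ha b hb).mul_pow,
            ← QuotientGroup.mk_pow, ← QuotientGroup.mk_pow, (QuotientGroup.eq_one_iff _).mpr ha',
            (QuotientGroup.eq_one_iff _).mpr hb', one_mul]⟩
        inv_mem' := fun {a} ⟨ha, ha'⟩ => ⟨inv_mem ha, by rw [inv_pow]; exact inv_mem ha'⟩ }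
    have hVW : V ≤ W := fun v hv => ⟨hVU.le hv, pow_mem hv q⟩
    obtain ⟨k, hk⟩ := hqd
    have hmem : u₀ ^ k ∈ W := ⟨pow_mem hu₀U k, by
      rw [← pow_mul, mul_comm, ← hk, ← QuotientGroup.eq_one_iff, QuotientGroup.mk_pow, pow_orderOf_eq_one]⟩
    have hnot : u₀ ^ k ∉ V := fun h => by
      rw [← QuotientGroup.eq_one_iff, QuotientGroup.mk_pow, ← orderOf_dvd_iff_pow_eq_one, hk] at h
      have hk0 : 0 < k := Nat.pos_of_ne_zero fun h0 => (orderOf_pos (u₀ : G ⧸ V)).ne' (by rw [hk, h0, mul_zero])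
      have := Nat.le_of_dvd hk0 h
      nlinarith [hq.two_le]
    have hUW : U ≤ W := hUmin ⟨⟨fun w hw g => ⟨hUn.conj_mem w hw.1 g, by
        rw [conj_pow]; exact hVn.conj_mem _ hw.2 g⟩⟩,
      fun a w hw => ⟨hUi a w hw.1, by rw [← map_pow]; exact hVi a _ hw.2⟩,
      lt_of_le_of_ne hVW (fun h => hnot (h ▸ hmem)), fun w hw => hUle hw.1⟩ (fun w hw => hw.1)
    exact fun u hu => (hUW hu).2
  -- the action of `N` on the section
  haveI hUb : (U.map π).Normal := Subgroup.Normal.map hUn π (QuotientGroup.mk'_surjective V)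
  let f : G →* MulAut (U.map π) := (MulAut.conjNormal (H := U.map π)).comp π
  haveI : Finite (MulAut (U.map π)) :=
    Finite.of_injective (fun e : MulAut (U.map π) => (e : U.map π → U.map π)) DFunLike.coe_injective
  set R := N.map f with hR
  have htriv : ∀ {g : G}, (∀ u ∈ U, ⁅g, u⁆ ∈ V) → f g = 1 := by
    intro g hg
    refine MulEquiv.ext fun u => Subtype.ext ?_
    obtain ⟨x, hx, hxe⟩ := u.2
    show π g * (u : G ⧸ V) * (π g)⁻¹ = (u : G ⧸ V)
    rw [← hxe, mul_inv_eq_iff_eq_mul]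
    exact (AlperinFix.commute_mk_of_mem (hg x hx)).eq
  have hRnil : Group.IsNilpotent R := by
    refine Subgroup.isNilpotent_of_lowerCentralSeries_eq_bot (n := w) ?_
    rw [hR, ← Subgroup.map_lowerCentralSeries, Subgroup.map_eq_bot_iff]
    exact fun g hg => htriv fun u hu => hab (Subgroup.commutator_mem_commutator (hw hg) hu)
  have hFq : ∀ i, ∀ y ∈ F i, ∃ a, (f y) ^ q ^ a = 1 := by
    intro i y hy
    obtain ⟨a, m, hm, hym⟩ := Nat.exists_eq_pow_mul_and_not_dvd (orderOf_pos y).ne' q hq.ne_one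
    refine ⟨a, ?_⟩
    rw [← map_pow]
    refine htriv fun u hu => C.comm_mem_of_coprime hAc hcop hUn hVn hUi hab hexp (pow_mem hy _) ?_ hu
    refine Nat.Coprime.coprime_dvd_left (orderOf_dvd_of_pow_eq_one ?_) (hq.coprime_iff_not_dvd.mpr hm).symm
    rw [← pow_mul, ← hym, pow_orderOf_eq_one]
  have hRq : IsPGroup q R := by
    obtain ⟨P⟩ := (inferInstance : Nonempty (Sylow q R))
    haveI : (P : Subgroup R).Normal :=
      (Group.isNilpotent_of_finite_tfae (G := R)).out 0 3 rfl rfl |>.mp hRnil q inferInstance P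
    have hle : ∀ x : R, (∃ a, x ^ q ^ a = 1) → x ∈ (P : Subgroup R) := by
      rintro x ⟨a, ha⟩
      have hx : IsPGroup q (Subgroup.zpowers x) := by
        intro z
        obtain ⟨j, hj⟩ := Subgroup.mem_zpowers_iff.mp z.2
        refine ⟨a, Subtype.ext ?_⟩
        rw [SubgroupClass.coe_pow, ← hj, ← zpow_natCast, ← zpow_mul, mul_comm, zpow_mul, zpow_natCast, ha,
          one_zpow]
        rfl
      obtain ⟨P', hP'⟩ := hx.exists_le_sylow
      haveI := Sylow.unique_of_normal P inferInstance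
      rw [Subsingleton.elim P P']
      exact hP' (Subgroup.mem_zpowers x)
    have htop : (P : Subgroup R) = ⊤ := by
      refine eq_top_iff.mpr fun x _ => ?_
      have hNle : N ≤ ((P : Subgroup R).map R.subtype).comap f := by
        rw [← C.gen]
        refine iSup_le fun i y hy => ?_
        have hyN : f y ∈ R := ⟨y, C.gen ▸ (le_iSup F i hy), rfl⟩
        obtain ⟨a, ha⟩ := hFq i y hy
        exact ⟨⟨f y, hyN⟩, hle _ ⟨a, Subtype.ext ha⟩, rfl⟩
      obtain ⟨y, hy, he⟩ := x.2
      obtain ⟨z, hz, hze⟩ := hNle hy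
      rwa [show x = z from Subtype.ext (he.symm.trans hze.symm)]
    exact (htop ▸ P.2 : IsPGroup q (⊤ : Subgroup R)).of_equiv Subgroup.topEquiv
  -- a fixed point
  obtain ⟨z, hz1, hzfix⟩ : ∃ z : U.map π, z ≠ 1 ∧ ∀ r ∈ R, r z = z := by
    letI : MulAction R (U.map π) := MulAction.compHom _ R.subtype
    have hd : q ∣ Nat.card (U.map π) := by
      obtain ⟨k, hk⟩ := hqd
      have h1 : orderOf ((⟨(u₀ : G ⧸ V), u₀, hu₀U, rfl⟩ : U.map π)) ∣ Nat.card (U.map π) := orderOf_dvd_natCard _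
      rw [← Subgroup.orderOf_coe, hk] at h1
      exact (Dvd.intro k rfl).trans h1
    obtain ⟨z, hz, hne1⟩ := hRq.exists_fixed_point_of_prime_dvd_card_of_fixed_point (U.map π) hd
      (a := 1) (fun r => map_one (r : MulAut (U.map π)))
    exact ⟨z, fun h => hne1 h.symm, fun r hr => hz ⟨r, hr⟩⟩
  -- the fixed points form an invariant normal subgroup
  let Fx : Subgroup G :=
    { carrier := {u | u ∈ U ∧ ∀ n ∈ N, ⁅n, u⁆ ∈ V}
      one_mem' := ⟨one_mem _, fun n _ => by rw [commutatorElement_one_right]; exact one_mem _⟩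
      mul_mem' := fun {a b} ⟨ha, ha'⟩ ⟨hb, hb'⟩ => ⟨mul_mem ha hb, fun n hn =>
        AlperinFix.mem_of_commute_mk ((AlperinFix.commute_mk_of_mem (ha' n hn)).mul_right
          (AlperinFix.commute_mk_of_mem (hb' n hn)))⟩
      inv_mem' := fun {a} ⟨ha, ha'⟩ => ⟨inv_mem ha, fun n hn =>
        AlperinFix.mem_of_commute_mk (AlperinFix.commute_mk_of_mem (ha' n hn)).inv_right⟩ }
  have hFxn : Fx.Normal := ⟨fun u hu g => ⟨hUn.conj_mem u hu.1 g, fun n hn => by
    have h1 := hVn.conj_mem _ (hu.2 _ (C.normal.conj_mem n hn g⁻¹)) g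
    rwa [show g * ⁅g⁻¹ * n * g⁻¹⁻¹, u⁆ * g⁻¹ = ⁅n, g * u * g⁻¹⁆ by
      simp only [commutatorElement_def]; group] at h1⟩⟩
  have hFxi : Inv act Fx := fun a u hu => ⟨hUi a u hu.1, fun n hn => by
    have h1 := hVi a _ (hu.2 _ (C.inv a⁻¹ n hn))
    rwa [map_commutatorElement, FPF.apply_inv_apply] at h1⟩
  have hVFx : V ≤ Fx := fun v hv => ⟨hVU.le hv, fun n _ => Subgroup.commutator_le_right ⊤ V
    (Subgroup.commutator_mem_commutator (Subgroup.mem_top n) hv)⟩
  have hlt : V < Fx := by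
    refine lt_of_le_of_ne hVFx fun he => hz1 (Subtype.ext ?_)
    obtain ⟨x, hx, hxe⟩ := z.2
    have hxF : x ∈ Fx := ⟨hx, fun n hn => by
      refine AlperinFix.mem_of_commute_mk ?_
      have h1 : π n * (z : G ⧸ V) * (π n)⁻¹ = (z : G ⧸ V) :=
        congrArg Subtype.val (hzfix (f n) ⟨n, hn, rfl⟩)
      rw [← hxe, mul_inv_eq_iff_eq_mul] at h1
      exact h1⟩
    rw [← hxe, ← he] at *
    exact (QuotientGroup.eq_one_iff x).mpr hxF
  have hUF : U ≤ Fx := hUmin ⟨hFxn, hFxi, hlt, fun u hu => hUle hu.1⟩ fun u hu => hu.1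
  refine hVfail (w + 1) (Subgroup.commutator_le.mpr fun x hx n hn => ?_)
  rw [← inv_mem_iff, commutatorElement_inv]
  exact (hUF (hw hx)).2 n hn

/-- The class bound. -/
theorem lcs_eq_bot [Fintype ι] [Group.IsSolvable G] {p : ℕ} [Fact p.Prime]
    (hpG : ¬ p ∣ Nat.card G) (a : A) (ha : a ^ p = 1) {s : ℕ} (hsol : dS (fixBy act a) s = ⊥) :
    N.lowerCentralSeries (classBound p (Fintype.card ι) (c + 1) s) = ⊥ := by
  obtain ⟨w, hw⟩ := C.isNilpotent hAc hcop
  haveI : Group.IsNilpotent N := Subgroup.isNilpotent_of_lowerCentralSeries_eq_bot hw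
  let act' := FPF.resAct act N C.inv
  let F' : ι → Subgroup N := fun i => (F i).subgroupOf N
  have hFN : ∀ i, F i ≤ N := fun i => C.gen ▸ le_iSup F i
  have hmap : ∀ i, (F' i).map N.subtype = F i := fun i => Subgroup.map_subgroupOf_eq_of_le (hFN i)
  have hinvmap : ∀ {K : Subgroup N}, Inv act' K → Inv act (K.map N.subtype) := by
    rintro K hK b _ ⟨x, hx, rfl⟩
    exact ⟨act' b x, hK b x hx, rfl⟩
  have h := lcs_eq_bot_of_covering (G := N) (ι := ι) (F := F') act'
    (fun hd => hpG (hd.trans (Subgroup.card_subgroup_dvd_card N))) hAc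
    (fun i b x hx => C.finv i b x hx)
    (Subgroup.map_injective N.subtype_injective (by
      rw [Subgroup.map_iSup, iSup_congr hmap, C.gen, ← MonoidHom.range_eq_map, Subgroup.range_subtype]))
    (fun i j K hK hle => by
      refine (Subgroup.map_le_map_iff_of_injective N.subtype_injective).mp ?_
      rw [Subgroup.map_iSup]
      refine (C.clo i j _ (hinvmap hK) ?_).trans (iSup_mono fun l => ?_)
      · rw [← hmap i, ← hmap j, ← Subgroup.map_commutator]
        exact Subgroup.map_mono hle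
      · rintro _ ⟨⟨x, hx, rfl⟩, hxF⟩
        exact ⟨x, ⟨hx, hxF⟩, rfl⟩)
    (ee := c + 1) (fun i K hK => by
      obtain ⟨B, hB, hT⟩ := C.eng i
      refine (Subgroup.map_le_map_iff_of_injective N.subtype_injective).mp ?_
      refine le_of_fixed_noncyclic act hAc hcop hB (hinvmap hK) fun b hb hb1 => ?_
      rintro _ ⟨⟨x, hx, rfl⟩, hxb⟩
      refine ⟨x, Subgroup.subset_closure ⟨hx, fun l hl hlen => Subtype.ext ?_⟩, rfl⟩
      obtain ⟨T, hFT, hTn, hTc⟩ := hT b hb hb1
      have hco : ∀ (l : List N) (z : N), ((gfold z l : N) : G) = gfold (z : G) (l.map Subtype.val) := by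
        intro l
        induction l with
        | nil => intro z; rfl
        | cons e l ih => intro z; exact ih ⁅z, e⁆
      rw [hco]
      refine gfold_eq_one hTc (fun z hz => hTn _ hxb z hz) ?_ (by rw [List.length_map, hlen])
      intro z hz
      obtain ⟨e, he, rfl⟩ := List.mem_map.mp hz
      exact hFT (hl e he))
    a ha (s := s) (le_bot_iff.mp fun x hx => by
      rw [Subgroup.mem_bot]
      refine Subtype.ext ?_
      have h1 : (x : G) ∈ (dS (fixBy act' a) s).map N.subtype := ⟨x, hx, rfl⟩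
      rw [AlperinFix.dS_map] at h1
      have h2 : (fixBy act' a).map N.subtype ≤ fixBy act a := by
        rintro _ ⟨y, hy, rfl⟩
        exact congrArg Subtype.val hy
      have h3 := AlperinFix.dS_mono h2 s h1
      rw [hsol, Subgroup.mem_bot] at h3
      exact h3)
  rw [← Subgroup.top_subtype_lowerCentralSeries]
  have h' : (⊤ : Subgroup N).lowerCentralSeries (classBound p (Fintype.card ι) (c + 1) s) = ⊥ := h
  rw [h', Subgroup.map_bot]

end Cover

end Cfsg.Agent.CoprimeNilClass
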