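/-
The families of special subgroups for derived terms and lower central terms, and the final bounds (helper83).

Main results (namespace `Cfsg.Agent.CoprimeNilClass`): `derived_class_bound`, `lower_class_bound`.
-/
import Cfsg.Agent.Lib.CoprimeNilClass.Cover
import Cfsg.Agent.Lib.Signalizer.SSFT.Main

set_option autoImplicit false
set_option linter.style.haveILetI false
open scoped commutatorElement

namespace Cfsg.Agent.CoprimeNilClass

open Cfsg.Agent.FPF (Inv fixBy)
open AlperinFix (dS)

universe uA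

/-- Binary trees with labels in the subsets of `A`. -/
def TreeD (A : Type uA) : ℕ → Type uA
  | 0 => Set A
  | i + 1 => TreeD A i × TreeD A i × Set A

/-- Combs with labels in the subsets of `A`. -/
def TreeL (A : Type uA) : ℕ → Type uA
  | 0 => Set A
  | i + 1 => TreeL A i × Set A × Set A

/-- The number of binary trees. -/
def numD (n : ℕ) : ℕ → ℕ
  | 0 => 2 ^ n
  | i + 1 => numD n i * (numD n i * 2 ^ n)

/-- The number of combs. -/
def numL (n : ℕ) : ℕ → ℕ
  | 0 => 2 ^ n
  | i + 1 => numL n i * (2 ^ n * 2 ^ n)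

variable {A : Type uA} [Finite A]

theorem card_setA : Nat.card (Set A) = 2 ^ Nat.card A := by
  haveI := Fintype.ofFinite A
  simp [Nat.card_eq_fintype_card, Fintype.card_set]

theorem finite_treeD : ∀ i, Finite (TreeD A i) ∧ Nat.card (TreeD A i) = numD (Nat.card A) i
  | 0 => ⟨inferInstanceAs (Finite (Set A)), card_setA⟩
  | i + 1 => by
    haveI := (finite_treeD i).1
    refine ⟨inferInstanceAs (Finite (TreeD A i × TreeD A i × Set A)), ?_⟩
    show Nat.card (TreeD A i × TreeD A i × Set A) = _
    rw [Nat.card_prod, Nat.card_prod, (finite_treeD i).2, card_setA]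
    rfl

theorem finite_treeL : ∀ i, Finite (TreeL A i) ∧ Nat.card (TreeL A i) = numL (Nat.card A) i
  | 0 => ⟨inferInstanceAs (Finite (Set A)), card_setA⟩
  | i + 1 => by
    haveI := (finite_treeL i).1
    refine ⟨inferInstanceAs (Finite (TreeL A i × Set A × Set A)), ?_⟩
    show Nat.card (TreeL A i × Set A × Set A) = _
    rw [Nat.card_prod, Nat.card_prod, (finite_treeL i).2, card_setA]
    rfl

variable [Group A]

open Classical in
/-- The operator subgroup attached to a label. -/
noncomputable def leafB (S : Set A) : Subgroup A :=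
  if ∃ g, Subgroup.closure S ⊔ Subgroup.zpowers g = ⊤ then Subgroup.closure S else ⊤

theorem leafB_index_le (hAc : ∀ a b : A, a * b = b * a) {p : ℕ} (hp : p.Prime) (hexp : ∀ a : A, a ^ p = 1)
    (S : Set A) : (leafB S).index ≤ p := by
  rw [leafB]
  split_ifs with h
  · obtain ⟨g, hg⟩ := h
    set B := Subgroup.closure S
    haveI : B.Normal := ⟨fun x hx a => by rwa [hAc a x, mul_inv_cancel_right]⟩
    have h1 : (Subgroup.zpowers g).map (QuotientGroup.mk' B) = ⊤ := by
      have h2 := congrArg (Subgroup.map (QuotientGroup.mk' B)) hg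
      rwa [Subgroup.map_sup, QuotientGroup.map_mk'_self, bot_sup_eq,
        Subgroup.map_top_of_surjective _ (QuotientGroup.mk'_surjective B)] at h2
    rw [Subgroup.index_eq_card, ← Subgroup.card_top, ← h1, MonoidHom.map_zpowers, Nat.card_zpowers]
    exact Nat.le_of_dvd hp.pos (orderOf_dvd_of_pow_eq_one (by rw [← map_pow, hexp, map_one]))
  · rw [Subgroup.index_top]; exact hp.pos

theorem not_isCyclic_of_index {p : ℕ} (hp : p.Prime) (hexp : ∀ a : A, a ^ p = 1) {B : Subgroup A} {j k : ℕ}
    (hcard : Nat.card A = p ^ k) (hi : B.index ≤ p ^ j) (hjk : j + 2 ≤ k) : ¬ IsCyclic B := by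
  intro hcyc
  obtain ⟨g, hg⟩ := hcyc.exists_generator
  have h1 : Nat.card B ≤ p := by
    rw [← orderOf_eq_card_of_forall_mem_zpowers hg]
    exact Nat.le_of_dvd hp.pos (orderOf_dvd_of_pow_eq_one (Subtype.ext (by rw [SubgroupClass.coe_pow]; exact hexp _)))
  have h2 := Subgroup.card_mul_index B
  rw [hcard] at h2
  have h3 : p ^ k ≤ p * p ^ j := h2 ▸ Nat.mul_le_mul h1 hi
  rw [← pow_succ'] at h3
  have := (Nat.pow_le_pow_iff_right hp.one_lt).mp h3
  omega

variable {G : Type*} [Group G] [Finite G] (act : A →* MulAut G)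

/-- The special subgroup of a binary tree. -/
noncomputable def specD : ∀ i, TreeD A i → Subgroup G
  | 0, S => fixSub act (leafB S)
  | i + 1, t => ⁅specD i t.1, specD i t.2.1⁆ ⊓ fixSub act (leafB t.2.2)

/-- The special subgroup of a comb. -/
noncomputable def specL : ∀ i, TreeL A i → Subgroup G
  | 0, S => fixSub act (leafB S)
  | i + 1, t => ⁅specL i t.1, fixSub act (leafB t.2.1)⁆ ⊓ fixSub act (leafB t.2.2)

/-- The common operators of the leaves of a binary tree. -/
noncomputable def baseD : ∀ i, TreeD A i → Subgroup A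
  | 0, S => leafB S
  | i + 1, t => baseD i t.1 ⊓ baseD i t.2.1

/-- The common operators of the leaves of a comb. -/
noncomputable def baseL : ∀ i, TreeL A i → Subgroup A
  | 0, S => leafB S
  | i + 1, t => baseL i t.1 ⊓ leafB t.2.1

variable (hAc : ∀ a b : A, a * b = b * a) (hcop : (Nat.card A).Coprime (Nat.card G))

include hAc in
theorem specD_inv : ∀ i t, Inv act (specD act i t)
  | 0, S => fixSub_inv act hAc _
  | i + 1, t => inv_inf act (inv_comm act (specD_inv i t.1) (specD_inv i t.2.1)) (fixSub_inv act hAc _)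

include hAc in
theorem specL_inv : ∀ i t, Inv act (specL act i t)
  | 0, S => fixSub_inv act hAc _
  | i + 1, t => inv_inf act (inv_comm act (specL_inv i t.1) (fixSub_inv act hAc _)) (fixSub_inv act hAc _)

theorem specD_succ_le : ∀ (i : ℕ) (t : TreeD A (i + 1)), ∃ t', specD act (i + 1) t ≤ specD act i t'
  | 0, t => ⟨t.2.2, inf_le_right⟩
  | i + 1, t => by
    obtain ⟨x, hx⟩ := specD_succ_le i t.1
    obtain ⟨y, hy⟩ := specD_succ_le i t.2.1
    exact ⟨(x, y, t.2.2), inf_le_inf (Subgroup.commutator_mono hx hy) le_rfl⟩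

theorem specL_succ_le : ∀ (i : ℕ) (t : TreeL A (i + 1)), ∃ t', specL act (i + 1) t ≤ specL act i t'
  | 0, t => ⟨t.2.2, inf_le_right⟩
  | i + 1, t => by
    obtain ⟨x, hx⟩ := specL_succ_le i t.1
    exact ⟨(x, t.2.1, t.2.2), inf_le_inf (Subgroup.commutator_mono hx le_rfl) le_rfl⟩

theorem specL_le_fix : ∀ (i : ℕ) (t : TreeL A i), ∃ S : Set A, specL act i t ≤ fixSub act (leafB S)
  | 0, S => ⟨S, le_rfl⟩
  | _ + 1, t => ⟨t.2.2, inf_le_right⟩

theorem specD_le_dS : ∀ (i : ℕ) (t : TreeD A i), ∀ b ∈ baseD i t, specD act i t ≤ dS (fixBy act b) i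
  | 0, _, _, hb => fixSub_le act hb
  | i + 1, t, b, hb => inf_le_left.trans
      (Subgroup.commutator_mono (specD_le_dS i t.1 b hb.1) (specD_le_dS i t.2.1 b hb.2))

theorem specL_le_lcs : ∀ (i : ℕ) (t : TreeL A i), ∀ b ∈ baseL i t,
    specL act i t ≤ (fixBy act b).lowerCentralSeries i
  | 0, _, _, hb => fixSub_le act hb
  | i + 1, t, b, hb => inf_le_left.trans
      (Subgroup.commutator_mono (specL_le_lcs i t.1 b hb.1) (fixSub_le act hb.2))

include hAc in
theorem baseD_index_le {p : ℕ} (hp : p.Prime) (hexp : ∀ a : A, a ^ p = 1) :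
    ∀ i (t : TreeD A i), (baseD i t).index ≤ p ^ 2 ^ i
  | 0, S => by simpa [baseD] using leafB_index_le hAc hp hexp S
  | i + 1, t => by
    refine (Subgroup.index_inf_le (H := baseD i t.1) (K := baseD i t.2.1)).trans ?_
    rw [pow_succ, pow_mul, sq]
    exact Nat.mul_le_mul (baseD_index_le hp hexp i t.1) (baseD_index_le hp hexp i t.2.1)

include hAc in
theorem baseL_index_le {p : ℕ} (hp : p.Prime) (hexp : ∀ a : A, a ^ p = 1) :
    ∀ i (t : TreeL A i), (baseL i t).index ≤ p ^ (i + 1)
  | 0, S => by simpa [baseL] using leafB_index_le hAc hp hexp S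
  | i + 1, t => by
    refine (Subgroup.index_inf_le (H := baseL i t.1) (K := leafB t.2.1)).trans ?_
    rw [pow_succ]
    exact Nat.mul_le_mul (baseL_index_le hp hexp i t.1) (leafB_index_le hAc hp hexp _)

omit [Finite A] [Group A] in
theorem comm_mem_of_iSup {α : Type*} {T : α → Subgroup G} {R : Subgroup G} (b : G)
    (hT : ∀ x, T x ≤ Subgroup.normalizer (R : Set G)) (hb : ∀ x, ∀ a ∈ T x, ⁅a, b⁆ ∈ R) {a : G}
    (ha : a ∈ ⨆ x, T x) : ⁅a, b⁆ ∈ R := by
  suffices hs : a ∈ Subgroup.normalizer (R : Set G) ∧ ⁅a, b⁆ ∈ R from hs.2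
  refine Subgroup.iSup_induction T (C := fun a => a ∈ Subgroup.normalizer (R : Set G) ∧ ⁅a, b⁆ ∈ R) ha
    (fun x a ha => ⟨hT x ha, hb x a ha⟩) ⟨one_mem _, ?_⟩ fun a a' h1 h2 => ⟨mul_mem h1.1 h2.1, ?_⟩
  · rw [commutatorElement_one_left]; exact one_mem _
  · rw [show ⁅a * a', b⁆ = a * ⁅a', b⁆ * a⁻¹ * ⁅a, b⁆ by simp only [commutatorElement_def]; group]
    exact mul_mem ((Subgroup.mem_normalizer_iff.mp h1.1 _).mp h2.2) h1.2

omit [Finite A] [Group A] in
theorem commutator_iSup_le {α β : Type*} {P : α → Subgroup G} {Q : β → Subgroup G} {R : Subgroup G}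
    (hP : ∀ x, P x ≤ Subgroup.normalizer (R : Set G)) (hQ : ∀ y, Q y ≤ Subgroup.normalizer (R : Set G))
    (h : ∀ x y, ⁅P x, Q y⁆ ≤ R) : ⁅⨆ x, P x, ⨆ y, Q y⁆ ≤ R := by
  rw [Subgroup.commutator_le]
  intro a ha b hb
  refine comm_mem_of_iSup b hP (fun x a ha => ?_) ha
  rw [← inv_mem_iff, commutatorElement_inv]
  refine comm_mem_of_iSup a hQ (fun y c hc => ?_) hb
  rw [← inv_mem_iff, commutatorElement_inv]
  exact h x y (Subgroup.commutator_mem_commutator ha hc)

omit [Finite A] [Group A] in
theorem le_normalizer_iSup_of_comm {α : Type*} {R : α → Subgroup G} {H : Subgroup G}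
    (h : ∀ x, ∀ a ∈ H, ∀ z ∈ R x, ⁅a, z⁆ ∈ ⨆ x, R x) :
    H ≤ Subgroup.normalizer ((⨆ x, R x : Subgroup G) : Set G) := by
  intro a ha
  refine Coprime.mem_normalizer_of_forall ?_
  have hle : (⨆ x, R x) ≤ (⨆ x, R x).comap (MulAut.conj a).toMonoidHom := by
    refine iSup_le fun x z hz => ?_
    show a * z * a⁻¹ ∈ ⨆ x, R x
    rw [show a * z * a⁻¹ = ⁅a, z⁆ * z by rw [commutatorElement_def]; group]
    exact mul_mem (h x a ha z hz) (Subgroup.mem_iSup_of_mem x hz)
  exact fun z hz => hle hz

include hAc hcop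

/-- The derived terms are generated by the special subgroups. -/
theorem iSup_specD : ∀ i, ⨆ t, specD act i t = dS (⊤ : Subgroup G) i := by
  intro i
  induction i with
  | zero =>
    refine le_antisymm le_top (le_of_fixed_cyclic act hAc hcop (fun _ _ _ => Subgroup.mem_top _) fun B g hg => ?_)
    have he : leafB (B : Set A) = B := by rw [leafB, Subgroup.closure_eq, if_pos ⟨g, hg⟩]
    exact inf_le_right.trans (le_iSup_of_le (B : Set A) (le_of_eq (congrArg (fixSub act) he.symm)))
  | succ i ih =>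
    refine le_antisymm (iSup_le fun t => inf_le_left.trans ?_) ?_
    · rw [AlperinFix.dS_succ, ← ih]
      exact Subgroup.commutator_mono (le_iSup (fun t => specD act i t) t.1) (le_iSup (fun t => specD act i t) t.2.1)
    have hsmall : ∀ x y, ⁅specD act i x, specD act i y⁆ ≤ ⨆ t, specD act (i + 1) t := by
      intro x y
      refine le_of_fixed_cyclic act hAc hcop
        (inv_comm act (specD_inv act hAc i x) (specD_inv act hAc i y)) fun B g hg => ?_
      have he : leafB (B : Set A) = B := by rw [leafB, Subgroup.closure_eq, if_pos ⟨g, hg⟩]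
      exact le_iSup_of_le ((x, y, (B : Set A)) : TreeD A (i + 1)) (by
        show _ ≤ ⁅specD act i x, specD act i y⁆ ⊓ fixSub act (leafB (B : Set A))
        rw [he])
    have hn : ∀ x, specD act i x ≤ Subgroup.normalizer ((⨆ t, specD act (i + 1) t : Subgroup G) : Set G) :=
      fun x => le_normalizer_iSup_of_comm fun t a ha z hz => by
        obtain ⟨y, hy⟩ := specD_succ_le act i t
        exact hsmall x y (Subgroup.commutator_mem_commutator ha (hy hz))
    rw [AlperinFix.dS_succ, ← ih]
    exact commutator_iSup_le hn hn hsmall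

/-- The lower central terms are generated by the special subgroups. -/
theorem iSup_specL : ∀ i, ⨆ t, specL act i t = (⊤ : Subgroup G).lowerCentralSeries i := by
  have h0 : ⨆ S : Set A, fixSub act (leafB S) = (⊤ : Subgroup G) := by
    refine le_antisymm le_top (le_of_fixed_cyclic act hAc hcop (fun _ _ _ => Subgroup.mem_top _) fun B g hg => ?_)
    have he : leafB (B : Set A) = B := by rw [leafB, Subgroup.closure_eq, if_pos ⟨g, hg⟩]
    exact inf_le_right.trans (le_iSup_of_le (B : Set A) (by rw [he]))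
  intro i
  induction i with
  | zero => exact h0
  | succ i ih =>
    refine le_antisymm (iSup_le fun t => inf_le_left.trans ?_) ?_
    · rw [Subgroup.lowerCentralSeries_succ, ← ih]
      exact Subgroup.commutator_mono (le_iSup (fun t => specL act i t) t.1) le_top
    have hsmall : ∀ x (S : Set A), ⁅specL act i x, fixSub act (leafB S)⁆ ≤ ⨆ t, specL act (i + 1) t := by
      intro x S
      refine le_of_fixed_cyclic act hAc hcop
        (inv_comm act (specL_inv act hAc i x) (fixSub_inv act hAc _)) fun B g hg => ?_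
      have he : leafB (B : Set A) = B := by rw [leafB, Subgroup.closure_eq, if_pos ⟨g, hg⟩]
      exact le_iSup_of_le ((x, S, (B : Set A)) : TreeL A (i + 1)) (by
        show _ ≤ ⁅specL act i x, fixSub act (leafB S)⁆ ⊓ fixSub act (leafB (B : Set A))
        rw [he])
    have hn' : ∀ S : Set A, fixSub act (leafB S) ≤
        Subgroup.normalizer ((⨆ t, specL act (i + 1) t : Subgroup G) : Set G) :=
      fun S => le_normalizer_iSup_of_comm fun t a ha z hz => by
        obtain ⟨y, hy⟩ := specL_succ_le act i t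
        rw [← inv_mem_iff, commutatorElement_inv]
        exact hsmall y S (Subgroup.commutator_mem_commutator (hy hz) ha)
    have hn : ∀ x, specL act i x ≤ Subgroup.normalizer ((⨆ t, specL act (i + 1) t : Subgroup G) : Set G) := by
      intro x
      obtain ⟨S, hS⟩ := specL_le_fix act i x
      exact hS.trans (hn' S)
    rw [Subgroup.lowerCentralSeries_succ, ← ih, ← h0]
    exact commutator_iSup_le hn hn' hsmall

omit hAc hcop [Finite A] [Group A] in
theorem dS_le_lcs (H : Subgroup G) : ∀ j, dS H j ≤ H.lowerCentralSeries j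
  | 0 => le_rfl
  | j + 1 => Subgroup.commutator_mono (dS_le_lcs H j) ((dS_le_lcs H j).trans (H.lowerCentralSeries_le_self j))

omit hAc hcop [Finite A] [Group A] in
theorem comm_mem_dS {H : Subgroup G} (i : ℕ) {y x : G} (hy : y ∈ H) (hx : x ∈ dS H i) : ⁅y, x⁆ ∈ dS H i := by
  rw [← Subgroup.range_subtype H, AlperinFix.dS_range] at hx ⊢
  obtain ⟨z, hz, rfl⟩ := hx
  exact ⟨⁅(⟨y, hy⟩ : H), z⁆, Subgroup.commutator_le_right ⊤ (derivedSeries H i)
    (Subgroup.commutator_mem_commutator (Subgroup.mem_top _) hz), rfl⟩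

omit hAc hcop [Finite A] [Group A] in
theorem comm_mem_lcs {H : Subgroup G} (i : ℕ) {y x : G} (hy : y ∈ H) (hx : x ∈ H.lowerCentralSeries i) :
    ⁅y, x⁆ ∈ H.lowerCentralSeries i := by
  rw [← inv_mem_iff, commutatorElement_inv]
  exact H.lowerCentralSeries_antitone i.le_succ (Subgroup.commutator_mem_commutator hx hy)

omit hcop in
theorem isSolvable_of_fix {p k : ℕ} [hp : Fact p.Prime] (hexp : ∀ a : A, a ^ p = 1) (hcard : Nat.card A = p ^ k)
    (hk : 3 ≤ k) (hpG : ¬ p ∣ Nat.card G) {s : ℕ} (hs : ∀ a : A, a ≠ 1 → dS (fixBy act a) s = ⊥) :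
    Group.IsSolvable G := by
  let X := G ⋊[act] A
  haveI : Finite X := Finite.of_equiv _ SemidirectProduct.equivProd.symm
  set A' := (SemidirectProduct.inr : A →* X).range
  set K := (SemidirectProduct.inl : G →* X).range
  have hA : Cfsg.IsElementaryAbelian p A' := by
    refine ⟨⟨⟨?_⟩⟩, ?_⟩
    · rintro ⟨_, a, rfl⟩ ⟨_, b, rfl⟩
      refine Subtype.ext ?_
      show (SemidirectProduct.inr a : X) * SemidirectProduct.inr b = SemidirectProduct.inr b * SemidirectProduct.inr a
      rw [← map_mul, ← map_mul, hAc]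
    · rintro _ ⟨a, rfl⟩
      rw [← map_pow, hexp, map_one]
  have hcA : Nat.card A' = p ^ k := by
    rw [← hcard]
    exact (Nat.card_congr (MonoidHom.ofInjective (f := (SemidirectProduct.inr : A →* X))
      SemidirectProduct.inr_injective).toEquiv).symm
  haveI hKn : K.Normal := by
    show (SemidirectProduct.inl : G →* X).range.Normal
    rw [SemidirectProduct.range_inl_eq_ker_rightHom]; infer_instance
  have hKc : Nat.card K = Nat.card G :=
    (Nat.card_congr (MonoidHom.ofInjective (f := (SemidirectProduct.inl : G →* X))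
      SemidirectProduct.inl_injective).toEquiv).symm
  have hsolv : Group.IsSolvable K := by
    refine Signalizer.isSolvable_of_solvable_centralizers hA (hcA ▸ Nat.pow_le_pow_right hp.out.pos hk)
      (hKc ▸ hpG) (by rw [Subgroup.normalizer_eq_top]; exact le_top) ?_
    rintro _ ⟨a, rfl⟩ ha1
    have ha : a ≠ 1 := fun h => ha1 (by rw [h, map_one])
    have hle : K ⊓ Subgroup.centralizer {(SemidirectProduct.inr a : X)} ≤
        (fixBy act a).map SemidirectProduct.inl := by
      rintro _ ⟨⟨g, rfl⟩, hg⟩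
      refine ⟨g, SemidirectProduct.inl_injective (φ := act) ?_, rfl⟩
      rw [SemidirectProduct.inl_aut, map_inv, mul_inv_eq_iff_eq_mul]
      exact (Subgroup.mem_centralizer_singleton_iff.mp hg).symm
    refine Coprime.isSolvable_of_le hle ⟨⟨s, ?_⟩⟩
    rw [← AlperinFix.dS_eq_bot_iff, ← AlperinFix.dS_map, hs a ha, Subgroup.map_bot]
  exact solvable_of_solvable_injective (f := (SemidirectProduct.inl : G →* X).rangeRestrict)
    (fun x y h => SemidirectProduct.inl_injective (congrArg Subtype.val h))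

omit hAc in
/-- The bound for derived terms. -/
theorem derived_class_bound {p k c d : ℕ} [hp : Fact p.Prime] (hAc : ∀ a b : A, a * b = b * a)
    (hexp : ∀ a : A, a ^ p = 1) (hcard : Nat.card A = p ^ k) (hk : 3 ≤ k) (hd : 2 ^ d + 2 ≤ k)
    (hpG : ¬ p ∣ Nat.card G) (hyp : ∀ a : A, a ≠ 1 → (dS (fixBy act a) d).lowerCentralSeries c = ⊥) :
    (derivedSeries G d).lowerCentralSeries (classBound p (numD (p ^ k) d) (c + 1) (d + c)) = ⊥ := by
  have hs : ∀ a : A, a ≠ 1 → dS (fixBy act a) (d + c) = ⊥ := fun a ha => by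
    rw [AlperinFix.dS_add]
    exact le_bot_iff.mp ((dS_le_lcs _ c).trans (hyp a ha).le)
  haveI := isSolvable_of_fix act hAc hexp hcard hk hpG hs
  haveI := (finite_treeD (A := A) d).1
  haveI := Fintype.ofFinite (TreeD A d)
  have hN : ⨆ t, specD act d t = derivedSeries G d := by rw [iSup_specD act hAc hcop, AlperinFix.dS_top]
  have C : Cover act (derivedSeries G d) (specD act d) c := {
    normal := derivedSeries_normal G d
    inv := FPF.inv_of_characteristic act _
    finv := specD_inv act hAc d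
    gen := hN
    clo := fun x y K hK hle => le_of_fixed_cyclic act hAc hcop hK fun B g hg => by
      have he : leafB (B : Set A) = B := by rw [leafB, Subgroup.closure_eq, if_pos ⟨g, hg⟩]
      obtain ⟨t, ht⟩ := specD_succ_le act d ((x, y, (B : Set A)) : TreeD A (d + 1))
      refine le_iSup_of_le t (le_inf inf_le_left (le_trans ?_ ht))
      show _ ≤ ⁅specD act d x, specD act d y⁆ ⊓ fixSub act (leafB (B : Set A))
      rw [he]
      exact inf_le_inf_right _ hle
    eng := fun t => ⟨baseD d t,
      not_isCyclic_of_index hp.out hexp hcard (baseD_index_le hAc hp.out hexp d t) hd,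
      fun b hb hb1 => ⟨dS (fixBy act b) d, specD_le_dS act d t b hb, fun _ hy _ hx => comm_mem_dS d hy hx,
        hyp b hb1⟩⟩ }
  obtain ⟨a, ha⟩ : ∃ a : A, a ≠ 1 := by
    by_contra hcon
    push Not at hcon
    haveI : Subsingleton A := ⟨fun x y => (hcon x).trans (hcon y).symm⟩
    rw [Nat.card_of_subsingleton (1 : A)] at hcard
    exact (Nat.one_lt_pow (by omega) hp.out.one_lt).ne hcard
  have h := C.lcs_eq_bot hAc hcop hpG a (hexp a) (hs a ha)
  rwa [← Nat.card_eq_fintype_card, (finite_treeD d).2, hcard] at h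

omit hAc in
/-- The bound for lower central terms. -/
theorem lower_class_bound {p k c i : ℕ} [hp : Fact p.Prime] (hAc : ∀ a b : A, a * b = b * a)
    (hexp : ∀ a : A, a ^ p = 1) (hcard : Nat.card A = p ^ k) (hik : i + 3 ≤ k)
    (hpG : ¬ p ∣ Nat.card G)
    (hyp : ∀ a : A, a ≠ 1 → ((fixBy act a).lowerCentralSeries i).lowerCentralSeries c = ⊥) :
    ((⊤ : Subgroup G).lowerCentralSeries i).lowerCentralSeries
      (classBound p (numL (p ^ k) i) (c + 1) (i + c)) = ⊥ := by
  have hs : ∀ a : A, a ≠ 1 → dS (fixBy act a) (i + c) = ⊥ := fun a ha => by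
    rw [AlperinFix.dS_add]
    exact le_bot_iff.mp (((AlperinFix.dS_mono (dS_le_lcs _ i) c).trans (dS_le_lcs _ c)).trans (hyp a ha).le)
  haveI := isSolvable_of_fix act hAc hexp hcard (by omega) hpG hs
  haveI := (finite_treeL (A := A) i).1
  haveI := Fintype.ofFinite (TreeL A i)
  have C : Cover act ((⊤ : Subgroup G).lowerCentralSeries i) (specL act i) c := {
    normal := inferInstance
    inv := FPF.inv_of_characteristic act _
    finv := specL_inv act hAc i
    gen := iSup_specL act hAc hcop i
    clo := fun x y K hK hle => le_of_fixed_cyclic act hAc hcop hK fun B g hg => by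
      have he : leafB (B : Set A) = B := by rw [leafB, Subgroup.closure_eq, if_pos ⟨g, hg⟩]
      obtain ⟨S, hS⟩ := specL_le_fix act i y
      obtain ⟨t, ht⟩ := specL_succ_le act i ((x, S, (B : Set A)) : TreeL A (i + 1))
      refine le_iSup_of_le t (le_inf inf_le_left (le_trans ?_ ht))
      show _ ≤ ⁅specL act i x, fixSub act (leafB S)⁆ ⊓ fixSub act (leafB (B : Set A))
      rw [he]
      exact inf_le_inf_right _ (hle.trans (Subgroup.commutator_mono le_rfl hS))
    eng := fun t => ⟨baseL i t,
      not_isCyclic_of_index hp.out hexp hcard (baseL_index_le hAc hp.out hexp i t) hik,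
      fun b hb hb1 => ⟨(fixBy act b).lowerCentralSeries i, specL_le_lcs act i t b hb,
        fun _ hy _ hx => comm_mem_lcs i hy hx, hyp b hb1⟩⟩ }
  obtain ⟨a, ha⟩ : ∃ a : A, a ≠ 1 := by
    by_contra hcon
    push Not at hcon
    haveI : Subsingleton A := ⟨fun x y => (hcon x).trans (hcon y).symm⟩
    rw [Nat.card_of_subsingleton (1 : A)] at hcard
    exact (Nat.one_lt_pow (by omega) hp.out.one_lt).ne hcard
  have h := C.lcs_eq_bot hAc hcop hpG a (hexp a) (hs a ha)
  rwa [← Nat.card_eq_fintype_card, (finite_treeL i).2, hcard] at h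

end Cfsg.Agent.CoprimeNilClass
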